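import Groth.Prelude.Def_W4c1hilbpnTgt
import Mathlib.Data.Finsupp.SMul
import Mathlib.Data.Finsupp.Weight
import Mathlib.LinearAlgebra.Dimension.Constructions
import Mathlib.LinearAlgebra.FiniteDimensional.Lemmas
import Mathlib.RingTheory.Finiteness.Finsupp
import Mathlib.LinearAlgebra.Quotient.Basic

/-!
# Multidegree pieces of `Hom(I, S/I)` for a monomial ideal as spaces of functions on exponents
-/

set_option autoImplicit false

noncomputable section

namespace Groth.Agent.H15.HilbTgt.Basic

open MvPolynomial W4c1hilbpn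

universe u v

variable {σ : Type v} {k : Type u} [Field k] {I : Ideal (MvPolynomial σ k)}

theorem exps_add {β : σ →₀ ℕ} (hβ : β ∈ exps I) (δ : σ →₀ ℕ) : β + δ ∈ exps I := by
  show monomial (β + δ) (1 : k) ∈ I
  rw [show monomial (β + δ) (1 : k) = monomial δ 1 * monomial β 1 by
    rw [monomial_mul, add_comm, one_mul]]
  exact I.mul_mem_left _ hβ

theorem exps_mono {β β' : σ →₀ ℕ} (hβ : β ∈ exps I) (h : β ≤ β') : β' ∈ exps I := by
  obtain ⟨δ, rfl⟩ := exists_add_of_le h
  exact exps_add hβ δ

theorem monomial_mem {β : σ →₀ ℕ} (hβ : β ∈ exps I) (a : k) : monomial β a ∈ I := by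
  have : monomial β a = C a * monomial β 1 := by simp [C_mul_monomial]
  rw [this]
  exact I.mul_mem_left _ hβ

theorem coeff_eq_of_mk_eq (hI : IsMonomial I) {γ : σ →₀ ℕ} (h : γ ∉ exps I) {p p' : MvPolynomial σ k}
    (e : Ideal.Quotient.mk I p = Ideal.Quotient.mk I p') : coeff γ p = coeff γ p' := by
  rw [Ideal.Quotient.eq] at e
  by_contra hne
  exact h (hI _ e γ (mem_support_iff.2 (by
    rw [show coeff γ (p - p') = coeff γ p - coeff γ p' from map_sub (lcoeff k γ) p p']
    exact sub_ne_zero.2 hne)))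

open Classical in
/-- The coefficient at `γ` of a class modulo `I` (zero if `γ` is an exponent of `I`). -/
def qc (hI : IsMonomial I) (γ : σ →₀ ℕ) : (MvPolynomial σ k ⧸ I) →ₗ[k] k where
  toFun q := if γ ∈ exps I then 0 else coeff γ (Function.surjInv Ideal.Quotient.mk_surjective q)
  map_add' q r := by
    by_cases h : γ ∈ exps I
    · simp [h]
    · simp only [h, if_false]
      rw [← coeff_add]
      refine coeff_eq_of_mk_eq hI h ?_
      simp only [map_add, Function.surjInv_eq Ideal.Quotient.mk_surjective]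
  map_smul' a q := by
    by_cases h : γ ∈ exps I
    · simp [h]
    · simp only [h, if_false, RingHom.id_apply]
      rw [← coeff_smul]
      refine coeff_eq_of_mk_eq hI h ?_
      rw [Function.surjInv_eq Ideal.Quotient.mk_surjective]
      exact ((map_smul (Ideal.Quotient.mkₐ k I) a (Function.surjInv Ideal.Quotient.mk_surjective q)).trans
        (congrArg (a • ·) (Function.surjInv_eq Ideal.Quotient.mk_surjective q))).symm

theorem qc_mk (hI : IsMonomial I) {γ : σ →₀ ℕ} (h : γ ∉ exps I) (p : MvPolynomial σ k) :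
    qc hI γ (Ideal.Quotient.mk I p) = coeff γ p := by
  classical
  show (if γ ∈ exps I then 0 else coeff γ (Function.surjInv Ideal.Quotient.mk_surjective _)) = _
  rw [if_neg h]
  exact coeff_eq_of_mk_eq hI h (Function.surjInv_eq _ _)

theorem eq_zero_of_qc (hI : IsMonomial I) (q : MvPolynomial σ k ⧸ I)
    (h : ∀ γ, γ ∉ exps I → qc hI γ q = 0) : q = 0 := by
  obtain ⟨p, rfl⟩ := Ideal.Quotient.mk_surjective q
  rw [Ideal.Quotient.eq_zero_iff_mem, as_sum p]
  refine sum_mem fun γ hγ => monomial_mem ?_ _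
  by_contra hne
  exact (mem_support_iff.1 hγ) (by rw [← qc_mk hI hne]; exact h γ hne)

theorem tgt_ext (hI : IsMonomial I) {φ ψ : Tgt I}
    (h : ∀ (β : σ →₀ ℕ) (hβ : monomial β (1 : k) ∈ I), φ ⟨_, hβ⟩ = ψ ⟨_, hβ⟩) : φ = ψ := by
  classical
  refine LinearMap.ext fun x => ?_
  obtain ⟨p, hp⟩ := x
  have hmem : ∀ β : p.support, monomial (β : σ →₀ ℕ) (1 : k) ∈ I := fun β => hI p hp β.1 β.2
  have e : (⟨p, hp⟩ : I) = ∑ β : p.support, (C (coeff (β : σ →₀ ℕ) p) : MvPolynomial σ k) •
      (⟨monomial (β : σ →₀ ℕ) (1 : k), hmem β⟩ : I) := by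
    refine Subtype.ext ?_
    rw [Submodule.coe_sum]
    simp only [Submodule.coe_smul, smul_eq_mul, C_mul_monomial, mul_one]
    rw [Finset.sum_coe_sort (f := fun β => monomial β (coeff β p)), ← as_sum]
  rw [e, map_sum, map_sum]
  exact Finset.sum_congr rfl fun β _ => by rw [map_smul, map_smul, h]

variable [Finite σ]

theorem shift_apply {β : σ →₀ ℕ} {α : σ → ℤ} (h : ∀ i, 0 ≤ (β i : ℤ) + α i) (i : σ) :
    ((shift β α i : ℕ) : ℤ) = β i + α i := by
  simp only [shift, Finsupp.equivFunOnFinite_symm_apply_apply]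
  exact Int.toNat_of_nonneg (h i)

theorem shift_eq_iff {β : σ →₀ ℕ} {α : σ → ℤ} (h : ∀ i, 0 ≤ (β i : ℤ) + α i) {γ : σ →₀ ℕ} :
    shift β α = γ ↔ ∀ i, (γ i : ℤ) = β i + α i := by
  constructor
  · rintro rfl i
    exact shift_apply h i
  · intro hγ
    refine Finsupp.ext fun i => ?_
    have := shift_apply h i
    have := hγ i
    omega

/-- Exponents that can carry a nonzero value of a homomorphism of multidegree `α`. -/
abbrev Good (I : Ideal (MvPolynomial σ k)) (α : σ → ℤ) (β : σ →₀ ℕ) : Prop :=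
  β ∈ exps I ∧ (∀ i, 0 ≤ (β i : ℤ) + α i) ∧ shift β α ∉ exps I

theorem good_of_good_succ {α : σ → ℤ} {β : σ →₀ ℕ} {i : σ} (hβ : β ∈ exps I)
    (hs : Good I α (β + Finsupp.single i 1)) (hnn : ∀ j, 0 ≤ (β j : ℤ) + α j) : Good I α β := by
  refine ⟨hβ, hnn, fun h => hs.2.2 (exps_mono h fun j => ?_)⟩
  have h1 := shift_apply hnn j
  have h2 := shift_apply hs.2.1 j
  simp only [Finsupp.add_apply, Nat.cast_add] at h2
  omega

/-- The coefficient functions of the homomorphisms of multidegree `α`. -/
def Coef (I : Ideal (MvPolynomial σ k)) (α : σ → ℤ) : Submodule k ((σ →₀ ℕ) → k) where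
  carrier := {c | (∀ β, ¬ Good I α β → c β = 0) ∧
    ∀ β i, β ∈ exps I → Good I α (β + Finsupp.single i 1) → c (β + Finsupp.single i 1) = c β}
  zero_mem' := ⟨fun _ _ => rfl, fun _ _ _ _ => rfl⟩
  add_mem' := by
    rintro a b ⟨ha, ha'⟩ ⟨hb, hb'⟩
    exact ⟨fun β h => by simp [ha β h, hb β h], fun β i h h' => by simp [ha' β i h h', hb' β i h h']⟩
  smul_mem' := by
    rintro r a ⟨ha, ha'⟩
    exact ⟨fun β h => by simp [ha β h], fun β i h h' => by simp [ha' β i h h']⟩

variable (hI : IsMonomial I)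

/-- The component of multidegree `α` of a homomorphism. -/
def proj (α : σ → ℤ) : Tgt I →ₗ[k] ↥(Coef I α) :=
  LinearMap.codRestrict (Coef I α)
    { toFun := fun φ β => open Classical in if h : Good I α β then qc hI (shift β α) (φ ⟨monomial β 1, h.1⟩) else 0
      map_add' := fun φ ψ => funext fun β => by
        classical
        simp only [Pi.add_apply, LinearMap.add_apply, map_add]
        by_cases h : Good I α β
        · simp only [dif_pos h]
        · simp only [dif_neg h, add_zero]
      map_smul' := fun r φ => funext fun β => by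
        classical
        simp only [Pi.smul_apply, LinearMap.smul_apply, map_smul, RingHom.id_apply]
        by_cases h : Good I α β
        · simp only [dif_pos h]
        · simp only [dif_neg h, smul_zero] }
    (fun φ => by
      classical
      refine ⟨fun β h => by simp [h], fun β i hβ hs => ?_⟩
      simp only [LinearMap.coe_mk, AddHom.coe_mk, dif_pos hs]
      obtain ⟨p, hp⟩ := Ideal.Quotient.mk_surjective (φ ⟨monomial β 1, hβ⟩)
      have e : φ ⟨monomial (β + Finsupp.single i 1) 1, hs.1⟩ = Ideal.Quotient.mk I (X i * p) := by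
        have : (⟨monomial (β + Finsupp.single i 1) 1, hs.1⟩ : I) =
            (X i : MvPolynomial σ k) • (⟨monomial β 1, hβ⟩ : I) := Subtype.ext (by
          simp [X, monomial_mul, add_comm])
        rw [this, map_smul, ← hp]
        rfl
      rw [e, qc_mk hI hs.2.2, coeff_X_mul']
      by_cases hnn : ∀ j, 0 ≤ (β j : ℤ) + α j
      · have hg := good_of_good_succ hβ hs hnn
        have hsh : shift (β + Finsupp.single i 1) α = shift β α + Finsupp.single i 1 :=
          (shift_eq_iff hs.2.1).2 fun j => by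
            have := shift_apply hnn j
            simp only [Finsupp.add_apply, Nat.cast_add]
            omega
        rw [dif_pos hg, ← hp, qc_mk hI hg.2.2, hsh, if_pos (by simp), add_tsub_cancel_right]
      · rw [dif_neg (fun hg : Good I α β => hnn hg.2.1), if_neg]
        push Not at hnn
        obtain ⟨j, hj⟩ := hnn
        have hj' := hs.2.1 j
        have hji : j = i := by
          by_contra hji
          simp [Ne.symm hji] at hj'
          omega
        subst hji
        have := shift_apply hs.2.1 j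
        simp at this hj'
        simp only [Finsupp.mem_support_iff, not_not]
        omega)

theorem proj_apply_of_good (α : σ → ℤ) (φ : Tgt I) {β : σ →₀ ℕ} (h : Good I α β) :
    (proj hI α φ : (σ →₀ ℕ) → k) β = qc hI (shift β α) (φ ⟨monomial β 1, h.1⟩) := by
  classical
  show (if h : Good I α β then qc hI (shift β α) (φ ⟨monomial β 1, h.1⟩) else 0) = _
  rw [dif_pos h]

/-- The `k`-linear map underlying the homomorphism with coefficient function `c`. -/
def lin (I : Ideal (MvPolynomial σ k)) (α : σ → ℤ) (c : (σ →₀ ℕ) → k) :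
    MvPolynomial σ k →ₗ[k] (MvPolynomial σ k ⧸ I) :=
  (basisMonomials σ k).constr k fun β => c β • Ideal.Quotient.mk I (monomial (shift β α) 1)

theorem lin_monomial (α : σ → ℤ) (c : (σ →₀ ℕ) → k) (β : σ →₀ ℕ) (a : k) :
    lin I α c (monomial β a) = (a * c β) • Ideal.Quotient.mk I (monomial (shift β α) 1) := by
  have : monomial β a = a • basisMonomials σ k β := by simp [smul_monomial]
  rw [this, map_smul, lin, Module.Basis.constr_basis, smul_smul]

include hI in
theorem lin_X_mul (α : σ → ℤ) (c : ↥(Coef I α)) (i : σ) (p : MvPolynomial σ k) (hp : p ∈ I) :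
    lin I α (c : (σ →₀ ℕ) → k) (X i * p) =
      (X i : MvPolynomial σ k) • lin I α (c : (σ →₀ ℕ) → k) p := by
  conv_lhs => rw [as_sum p, Finset.mul_sum, map_sum]
  conv_rhs => rw [as_sum p, map_sum, Finset.smul_sum]
  refine Finset.sum_congr rfl fun β hβ => ?_
  have hβI : β ∈ exps I := hI p hp β hβ
  rw [show X i * monomial β (coeff β p) = monomial (β + Finsupp.single i 1) (coeff β p) by
    simp [X, monomial_mul, add_comm], lin_monomial, lin_monomial, smul_comm (X i : MvPolynomial σ k)]
  have e : (X i : MvPolynomial σ k) • Ideal.Quotient.mk I (monomial (shift β α) (1 : k)) =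
      Ideal.Quotient.mk I (monomial (shift β α + Finsupp.single i 1) 1) := by
    rw [show (X i : MvPolynomial σ k) • Ideal.Quotient.mk I (monomial (shift β α) (1 : k)) =
      Ideal.Quotient.mk I (X i * monomial (shift β α) 1) from rfl]
    simp [X, monomial_mul, add_comm]
  rw [e]
  by_cases hs : Good I α (β + Finsupp.single i 1)
  · rw [c.2.2 β i hβI hs]
    by_cases hnn : ∀ j, 0 ≤ (β j : ℤ) + α j
    · rw [(shift_eq_iff hs.2.1 (γ := shift β α + Finsupp.single i 1)).2 (fun j => by
        have := shift_apply hnn j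
        simp only [Finsupp.add_apply, Nat.cast_add]
        omega)]
    · rw [c.2.1 β (fun hg => hnn hg.2.1)]
      simp
  · rw [c.2.1 _ hs]
    by_cases hg : Good I α β
    · have hnn' : ∀ j : σ, 0 ≤ (((β + Finsupp.single i 1 : σ →₀ ℕ) j : ℕ) : ℤ) + α j := fun j => by
        have := hg.2.1 j
        simp only [Finsupp.add_apply, Nat.cast_add]
        omega
      have hmem : shift (β + Finsupp.single i 1) α ∈ exps I := by
        by_contra hne
        exact hs ⟨exps_add hg.1 _, hnn', hne⟩
      rw [(shift_eq_iff hnn' (γ := shift β α + Finsupp.single i 1)).2 (fun j => by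
        have := shift_apply hg.2.1 j
        simp only [Finsupp.add_apply, Nat.cast_add]
        omega)] at hmem
      rw [Ideal.Quotient.eq_zero_iff_mem.2 hmem]
      simp
    · rw [c.2.1 β hg]
      simp

include hI in
theorem lin_mul (α : σ → ℤ) (c : ↥(Coef I α)) (s : MvPolynomial σ k) :
    ∀ p ∈ I, lin I α (c : (σ →₀ ℕ) → k) (s * p) = s • lin I α (c : (σ →₀ ℕ) → k) p := by
  induction s using MvPolynomial.induction_on with
  | C a =>
    intro p _
    rw [← smul_eq_C_mul, map_smul, ← algebraMap_eq, algebraMap_smul]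
  | add f g hf hg =>
    intro p hp
    rw [add_mul, map_add, hf p hp, hg p hp, add_smul]
  | mul_X f i hf =>
    intro p hp
    rw [mul_assoc, hf _ (I.mul_mem_left _ hp), lin_X_mul hI α c i p hp, mul_smul]

/-- The homomorphism with a given coefficient function. -/
def ofCoef (α : σ → ℤ) : ↥(Coef I α) →ₗ[k] Tgt I where
  toFun c :=
    { toFun := fun p => lin I α (c : (σ →₀ ℕ) → k) p
      map_add' := fun p q => by simp
      map_smul' := fun s p => by
        simpa using lin_mul hI α c s p p.2 }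
  map_add' c d := by
    refine tgt_ext hI fun β hβ => ?_
    show lin I α ((c + d : ↥(Coef I α)) : (σ →₀ ℕ) → k) (monomial β 1) =
      lin I α (c : (σ →₀ ℕ) → k) (monomial β 1) + lin I α (d : (σ →₀ ℕ) → k) (monomial β 1)
    simp [lin_monomial, add_smul]
  map_smul' r c := by
    refine tgt_ext hI fun β hβ => ?_
    show lin I α ((r • c : ↥(Coef I α)) : (σ →₀ ℕ) → k) (monomial β 1) =
      r • lin I α (c : (σ →₀ ℕ) → k) (monomial β 1)
    simp [lin_monomial, smul_smul]

theorem ofCoef_monomial (α : σ → ℤ) (c : ↥(Coef I α)) {β : σ →₀ ℕ} (hβ : monomial β (1 : k) ∈ I) :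
    ofCoef hI α c ⟨_, hβ⟩ =
      (c : (σ →₀ ℕ) → k) β • Ideal.Quotient.mk I (monomial (shift β α) 1) := by
  show lin I α _ (monomial β 1) = _
  rw [lin_monomial, one_mul]

theorem ofCoef_mem (α : σ → ℤ) (c : ↥(Coef I α)) : ofCoef hI α c ∈ tPiece I α := by
  refine fun β hβ => ⟨fun _ => ?_, fun ⟨i, hi⟩ => ?_⟩
  · rw [ofCoef_monomial]
    exact Submodule.smul_mem _ _ (Submodule.mem_span_singleton_self _)
  · rw [ofCoef_monomial, c.2.1 β (fun hg => by have := hg.2.1 i; omega), zero_smul]

theorem proj_ofCoef (α : σ → ℤ) (c : ↥(Coef I α)) : proj hI α (ofCoef hI α c) = c := by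
  classical
  refine Subtype.ext (funext fun β => ?_)
  by_cases h : Good I α β
  · rw [proj_apply_of_good hI α _ h]
    erw [ofCoef_monomial]
    rw [map_smul, qc_mk hI h.2.2]
    simp
  · rw [(proj hI α _).2.1 β h, c.2.1 β h]

theorem proj_ofCoef_ne {α α' : σ → ℤ} (hne : α ≠ α') (c : ↥(Coef I α)) :
    proj hI α' (ofCoef hI α c) = 0 := by
  classical
  refine Subtype.ext (funext fun β => ?_)
  show (proj hI α' (ofCoef hI α c) : (σ →₀ ℕ) → k) β = 0
  by_cases h : Good I α' β
  · rw [proj_apply_of_good hI α' _ h]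
    erw [ofCoef_monomial]
    rw [map_smul, qc_mk hI h.2.2, coeff_monomial]
    by_cases hg : Good I α β
    · rw [if_neg, smul_zero]
      intro he
      refine hne (funext fun i => ?_)
      have h1 := shift_apply hg.2.1 i
      have h2 := shift_apply h.2.1 i
      rw [he] at h1
      omega
    · rw [c.2.1 β hg, zero_smul]
  · exact (proj hI α' _).2.1 β h

theorem ofCoef_proj_of_mem (α : σ → ℤ) {φ : Tgt I} (hφ : φ ∈ tPiece I α) :
    ofCoef hI α (proj hI α φ) = φ := by
  classical
  refine tgt_ext hI fun β hβ => ?_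
  rw [ofCoef_monomial]
  by_cases hnn : ∀ i, 0 ≤ (β i : ℤ) + α i
  · obtain ⟨a, ha⟩ := Submodule.mem_span_singleton.1 ((hφ β hβ).1 hnn)
    by_cases h : shift β α ∈ exps I
    · rw [(proj hI α φ).2.1 β (fun hg => hg.2.2 h), zero_smul, ← ha,
        Ideal.Quotient.eq_zero_iff_mem.2 h, smul_zero]
    · rw [proj_apply_of_good hI α φ ⟨hβ, hnn, h⟩, ← ha, map_smul, qc_mk hI h]
      simp
  · rw [(proj hI α φ).2.1 β (fun hg => hnn hg.2.1), zero_smul]
    push Not at hnn
    exact ((hφ β hβ).2 hnn).symm

theorem tPiece_eq_range (α : σ → ℤ) : tPiece I α = LinearMap.range (ofCoef hI α) :=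
  le_antisymm (fun φ hφ => ⟨_, ofCoef_proj_of_mem hI α hφ⟩) (by
    rintro _ ⟨c, rfl⟩
    exact ofCoef_mem hI α c)

theorem ofCoef_injective (α : σ → ℤ) : Function.Injective (ofCoef hI α) :=
  Function.LeftInverse.injective (g := proj hI α) (proj_ofCoef hI α)

/-- A piece is the space of coefficient functions. -/
def pieceEquiv (α : σ → ℤ) : ↥(tPiece I α) ≃ₗ[k] ↥(Coef I α) :=
  ((LinearEquiv.ofInjective _ (ofCoef_injective hI α)).trans
    (LinearEquiv.ofEq _ _ (tPiece_eq_range hI α).symm)).symm

include hI in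
theorem tPiece_eq_bot (α : σ → ℤ) (h : ∀ c : ↥(Coef I α), c = 0) : tPiece I α = ⊥ := by
  rw [tPiece_eq_range hI α, LinearMap.range_eq_bot]
  exact LinearMap.ext fun c => by rw [h c, map_zero, LinearMap.zero_apply]

include hI in
theorem finite_compl_exps [Module.Finite k (MvPolynomial σ k ⧸ I)] :
    {γ : σ →₀ ℕ | γ ∉ exps I}.Finite := by
  classical
  have hli : LinearIndependent k
      (fun γ : {γ : σ →₀ ℕ | γ ∉ exps I} => Ideal.Quotient.mk I (monomial (γ : σ →₀ ℕ) (1 : k))) := by
    rw [linearIndependent_iff']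
    intro s g hg γ hγ
    have := congrArg (qc hI (γ : σ →₀ ℕ)) hg
    rw [map_sum, map_zero, Finset.sum_eq_single γ] at this
    · rw [map_smul, qc_mk hI γ.2] at this
      simpa using this
    · intro δ _ hδ
      rw [map_smul, qc_mk hI γ.2, coeff_monomial, if_neg (fun e => hδ (Subtype.ext e)), smul_zero]
    · exact fun h => absurd hγ h
  exact Set.finite_coe_iff.1 hli.finite

/-- The minimal exponents of `I`. -/
def gens (I : Ideal (MvPolynomial σ k)) : Set (σ →₀ ℕ) :=
  {β | β ∈ exps I ∧ ∀ i, 0 < β i → β - Finsupp.single i 1 ∉ exps I}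

include hI in
theorem finite_gens [Module.Finite k (MvPolynomial σ k ⧸ I)] : (gens I).Finite := by
  refine Set.Finite.subset ((Set.finite_singleton (0 : σ →₀ ℕ)).union (Set.finite_iUnion fun i : σ =>
    (finite_compl_exps hI).image (· + Finsupp.single i 1))) fun β hβ => ?_
  by_cases h0 : β = 0
  · exact Or.inl h0
  · obtain ⟨i, hi⟩ : ∃ i, β i ≠ 0 := by
      by_contra! h
      exact h0 (Finsupp.ext h)
    refine Or.inr (Set.mem_iUnion.2 ⟨i, β - Finsupp.single i 1, hβ.2 i (Nat.pos_of_ne_zero hi),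
      Finsupp.ext fun j => ?_⟩)
    by_cases hj : j = i
    · subst hj; simp; omega
    · simp [Ne.symm hj]

theorem exists_gen {α : σ → ℤ} (c : ↥(Coef I α)) {β : σ →₀ ℕ}
    (hβ : (c : (σ →₀ ℕ) → k) β ≠ 0) :
    ∃ g ∈ gens I, (c : (σ →₀ ℕ) → k) g ≠ 0 := by
  induction h : β.degree using Nat.strong_induction_on generalizing β with
  | _ d ih =>
    have hg : Good I α β := by
      by_contra hg
      exact hβ (c.2.1 β hg)
    by_cases hmin : ∀ i, 0 < β i → β - Finsupp.single i 1 ∉ exps I
    · exact ⟨β, ⟨hg.1, hmin⟩, hβ⟩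
    · push Not at hmin
      obtain ⟨i, hi, hmem⟩ := hmin
      have e : β - Finsupp.single i 1 + Finsupp.single i 1 = β := Finsupp.ext fun j => by
        by_cases hj : j = i
        · subst hj; simp; omega
        · simp [Ne.symm hj]
      have hval := c.2.2 (β - Finsupp.single i 1) i hmem (by rw [e]; exact hg)
      rw [e] at hval
      have hd : (β - Finsupp.single i 1).degree < d := by
        have := congrArg Finsupp.degree e
        rw [map_add, Finsupp.degree_single, h] at this
        omega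
      exact ih _ hd (hval ▸ hβ) rfl

/-- The multidegrees that may carry a nonzero piece. -/
def degs [Module.Finite k (MvPolynomial σ k ⧸ I)] : Finset (σ → ℤ) :=
  (((finite_gens hI).prod (finite_compl_exps hI)).image
    fun x : (σ →₀ ℕ) × (σ →₀ ℕ) => fun i => (x.2 i : ℤ) - (x.1 i : ℤ)).toFinset

theorem eq_zero_of_notMem_degs [Module.Finite k (MvPolynomial σ k ⧸ I)] {α : σ → ℤ}
    (hα : α ∉ degs hI) (c : ↥(Coef I α)) : c = 0 := by
  refine Subtype.ext (funext fun β => ?_)
  show (c : (σ →₀ ℕ) → k) β = 0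
  by_contra hne
  obtain ⟨g, hg, hgne⟩ := exists_gen c hne
  have hgood : Good I α g := by
    by_contra h
    exact hgne (c.2.1 g h)
  refine hα ((Set.Finite.mem_toFinset _).2 ⟨(g, shift g α), ⟨hg, hgood.2.2⟩, funext fun i => ?_⟩)
  have := shift_apply hgood.2.1 i
  simp only
  omega

theorem finite_good [Module.Finite k (MvPolynomial σ k ⧸ I)] (hI : IsMonomial I) (α : σ → ℤ) :
    {β | Good I α β}.Finite := by
  refine Set.Finite.of_finite_image ((finite_compl_exps hI).subset ?_) (f := fun β => shift β α) ?_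
  · rintro _ ⟨β, hβ, rfl⟩
    exact hβ.2.2
  · intro β hβ β' hβ' e
    refine Finsupp.ext fun i => ?_
    have h1 := shift_apply hβ.2.1 i
    have h2 := shift_apply hβ'.2.1 i
    have e' : shift β α = shift β' α := e
    rw [e'] at h1
    omega

include hI in
theorem finite_coef [Module.Finite k (MvPolynomial σ k ⧸ I)] (α : σ → ℤ) :
    Module.Finite k ↥(Coef I α) := by
  have := (finite_good hI α).to_subtype
  let r : ↥(Coef I α) →ₗ[k] ({β | Good I α β} → k) :=
    { toFun := fun c β => (c : (σ →₀ ℕ) → k) β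
      map_add' := fun _ _ => rfl
      map_smul' := fun _ _ => rfl }
  refine Module.Finite.of_injective r fun c d h => Subtype.ext (funext fun β => ?_)
  by_cases hg : Good I α β
  · exact congrFun h ⟨β, hg⟩
  · rw [c.2.1 β hg, d.2.1 β hg]

theorem eq_sum_proj [Module.Finite k (MvPolynomial σ k ⧸ I)] (φ : Tgt I) :
    φ = ∑ α ∈ degs hI, ofCoef hI α (proj hI α φ) := by
  classical
  refine tgt_ext hI fun β hβ => sub_eq_zero.1 (eq_zero_of_qc hI _ fun γ hγ => ?_)
  let α : σ → ℤ := fun i => (γ i : ℤ) - β i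
  have hnn : ∀ i, 0 ≤ (β i : ℤ) + α i := fun i => by simp [α]
  have hsh : shift β α = γ := (shift_eq_iff hnn).2 fun i => by simp [α]
  have hg : Good I α β := ⟨hβ, hnn, hsh ▸ hγ⟩
  rw [map_sub, LinearMap.sum_apply, map_sum, Finset.sum_eq_single α]
  · rw [ofCoef_monomial, map_smul, qc_mk hI hγ, coeff_monomial, if_pos hsh,
      proj_apply_of_good hI α φ hg, smul_eq_mul, mul_one]
    exact sub_eq_zero.2 (congrArg (fun t => qc hI t (φ ⟨monomial β 1, hβ⟩)) hsh.symm)
  · intro α' _ hne
    rw [ofCoef_monomial, map_smul, qc_mk hI hγ, coeff_monomial]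
    by_cases hg' : Good I α' β
    · rw [if_neg, smul_zero]
      intro he
      refine hne (funext fun i => ?_)
      have := shift_apply hg'.2.1 i
      rw [he] at this
      simp only [α]
      omega
    · rw [(proj hI α' φ).2.1 β hg', zero_smul]
  · intro hα
    rw [eq_zero_of_notMem_degs hI hα (proj hI α φ), map_zero]
    simp

include hI in
theorem iSup_tPiece_eq_top [Module.Finite k (MvPolynomial σ k ⧸ I)] :
    (⨆ α, tPiece I α) = ⊤ := by
  refine eq_top_iff.2 fun φ _ => ?_
  rw [eq_sum_proj hI φ]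
  exact sum_mem fun α _ => (le_iSup (fun α => tPiece I α) α) (ofCoef_mem hI α _)

include hI in
theorem finrank_iSup [Module.Finite k (MvPolynomial σ k ⧸ I)] (P : (σ → ℤ) → Prop)
    (s : Finset (σ → ℤ)) (hs : ∀ α ∈ s, P α)
    (hs' : ∀ α, P α → α ∉ s → ∀ c : ↥(Coef I α), c = 0) :
    Module.finrank k ↥(⨆ α : {α : σ → ℤ // P α}, tPiece I α.1) =
      ∑ α ∈ s, Module.finrank k ↥(Coef I α) := by
  classical
  have := fun α => finite_coef hI α
  let J : ((α : s) → ↥(Coef I α.1)) →ₗ[k] Tgt I :=
    ∑ α : s, ofCoef hI α.1 ∘ₗ LinearMap.proj α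
  have hJ : ∀ f, J f = ∑ α : s, ofCoef hI α.1 (f α) := fun f => by simp [J]
  have hinj : Function.Injective J := fun f g h => funext fun α => by
    have key : ∀ f, proj hI α.1 (J f) = f α := fun f => by
      rw [hJ, map_sum, Finset.sum_eq_single α (fun β _ hne => proj_ofCoef_ne hI
        (fun e => hne (Subtype.ext e)) _) (fun hn => absurd (Finset.mem_univ _) hn), proj_ofCoef]
    rw [← key f, h, key g]
  have hrange : (⨆ α : {α : σ → ℤ // P α}, tPiece I α.1) = LinearMap.range J := by
    refine le_antisymm (iSup_le fun α => ?_) ?_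
    · by_cases hα : α.1 ∈ s
      · rw [tPiece_eq_range hI]
        rintro _ ⟨c, rfl⟩
        refine ⟨Pi.single ⟨α.1, hα⟩ c, ?_⟩
        rw [hJ, Finset.sum_eq_single ⟨α.1, hα⟩ (fun β _ hne => by simp [hne])
          (fun hn => absurd (Finset.mem_univ _) hn), Pi.single_eq_same]
      · rw [tPiece_eq_bot hI α.1 (hs' α.1 α.2 hα)]
        exact bot_le
    · rintro _ ⟨f, rfl⟩
      rw [hJ]
      exact sum_mem fun α _ => (le_iSup (fun α : {α : σ → ℤ // P α} => tPiece I α.1) ⟨α.1, hs _ α.2⟩)
        (ofCoef_mem hI α.1 _)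
  rw [hrange, LinearMap.finrank_range_of_inj hinj, Module.finrank_pi_fintype,
    Finset.sum_coe_sort (f := fun α => Module.finrank k ↥(Coef I α))]

end Groth.Agent.H15.HilbTgt.Basic
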