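import Groth.Agent.H15.HilbTgt.Basic

/-!
# Pieces and bounded components
-/

set_option autoImplicit false

noncomputable section

namespace Groth.Agent.H15.HilbTgt.Comp

open MvPolynomial W4c1hilbpn Groth.Agent.H15.HilbTgt.Basic

universe u

variable {k : Type u} [Field k] {n : ℕ} {I : Ideal (MvPolynomial (Fin n) k)} {α : Fin n → ℤ}

theorem coef_eq_zero_of_nonneg (hα : ∀ i, 0 ≤ α i) (c : ↥(Coef I α)) : c = 0 := by
  refine Subtype.ext (funext fun β => c.2.1 β fun hg => hg.2.2 (exps_mono hg.1 fun i => ?_))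
  have := shift_apply hg.2.1 i
  have := hα i
  omega

theorem exists_ne_of_two_le (hn : 2 ≤ n) (i : Fin n) : ∃ j : Fin n, j ≠ i := by
  have : Nontrivial (Fin n) := Fin.nontrivial_iff_two_le.2 hn
  exact exists_ne i

theorem exists_mem_exps_single (hI : IsMonomial I) [Module.Finite k (MvPolynomial (Fin n) k ⧸ I)]
    (γ : Fin n →₀ ℕ) (j : Fin n) : ∃ t, γ + Finsupp.single j t ∈ exps I := by
  by_contra! h
  refine Set.infinite_univ (α := ℕ) (Set.Finite.subset ((finite_compl_exps hI).image fun δ => δ j - γ j)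
    fun t _ => ⟨_, h t, ?_⟩)
  simp

theorem coef_eq_zero_of_neg (hn : 2 ≤ n) (hI : IsMonomial I) [Module.Finite k (MvPolynomial (Fin n) k ⧸ I)]
    (hα : ∀ i, α i < 0) (c : ↥(Coef I α)) : c = 0 := by
  refine Subtype.ext (funext fun β => ?_)
  show (c : (Fin n →₀ ℕ) → k) β = 0
  obtain ⟨k₀⟩ : Nonempty (Fin n) := ⟨⟨0, by omega⟩⟩
  obtain ⟨j, hj⟩ := exists_ne_of_two_le hn k₀
  induction h : (shift β α k₀) using Nat.strong_induction_on generalizing β with
  | _ N ih =>
    by_cases hg : Good I α β
    swap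
    · exact c.2.1 β hg
    obtain ⟨m, hm, hmax⟩ : ∃ m, shift β α + Finsupp.single j m ∉ exps I ∧
        shift β α + Finsupp.single j (m + 1) ∈ exps I := by
      by_contra! hcon
      have : ∀ m, shift β α + Finsupp.single j m ∉ exps I := fun m => by
        induction m with
        | zero => simpa using hg.2.2
        | succ m ihm => exact hcon m ihm
      obtain ⟨t, ht⟩ := exists_mem_exps_single hI (shift β α) j
      exact this t ht
    have hgood : ∀ t ≤ m, Good I α (β + Finsupp.single j t) := fun t ht => by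
      have hnn : ∀ i : Fin n, 0 ≤ (((β + Finsupp.single j t : Fin n →₀ ℕ) i : ℕ) : ℤ) + α i := fun i => by
        have := hg.2.1 i
        simp only [Finsupp.add_apply, Nat.cast_add]
        omega
      refine ⟨exps_add hg.1 _, hnn, fun hmem => hm (exps_mono hmem fun i => ?_)⟩
      have h1 := shift_apply hnn i
      have h2 := shift_apply hg.2.1 i
      simp only [Finsupp.add_apply, Nat.cast_add] at h1 ⊢
      by_cases hi : i = j
      · subst hi; simp at h1 ⊢; omega
      · simp [Ne.symm hi] at h1 ⊢; omega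
    have hval : ∀ t ≤ m, (c : (Fin n →₀ ℕ) → k) (β + Finsupp.single j t) = (c : (Fin n →₀ ℕ) → k) β := by
      intro t
      induction t with
      | zero => simp
      | succ t iht =>
        intro ht
        rw [← iht (by omega), Finsupp.single_add, ← add_assoc]
        exact c.2.2 _ j (exps_add hg.1 _) (by rw [add_assoc, ← Finsupp.single_add]; exact hgood _ ht)
    rw [← hval m le_rfl]
    have hgm := hgood m le_rfl
    have hb : (β + Finsupp.single j m : Fin n →₀ ℕ) k₀ = β k₀ := by simp [hj]
    have hk : 1 ≤ β k₀ := by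
      have := hg.2.1 k₀
      have := hα k₀
      omega
    set β₁ : Fin n →₀ ℕ := β + Finsupp.single j m with hβ₁
    have e : β₁ - Finsupp.single k₀ 1 + Finsupp.single k₀ 1 = β₁ := Finsupp.ext fun i => by
      by_cases hi : i = k₀
      · subst hi; simp; omega
      · simp [Ne.symm hi]
    have hmem : β₁ - Finsupp.single k₀ 1 ∈ exps I := by
      refine exps_mono hmax fun i => ?_
      have h1 := shift_apply hg.2.1 i
      have := hα i
      simp only [hβ₁, Finsupp.add_apply, Finsupp.tsub_apply]
      by_cases hi : i = k₀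
      · subst hi; simp [hj]; omega
      · by_cases hij : i = j
        · subst hij; simp [hj, hj.symm]; omega
        · simp [Ne.symm hi, Ne.symm hij]; omega
    have hstep := c.2.2 (β₁ - Finsupp.single k₀ 1) k₀ hmem (by rw [e]; exact hgm)
    rw [e] at hstep
    rw [hstep]
    by_cases hg' : Good I α (β₁ - Finsupp.single k₀ 1)
    · refine ih _ ?_ _ rfl
      have h1 := shift_apply hg'.2.1 k₀
      have h2 := shift_apply hg.2.1 k₀
      have hb2 : (β₁ - Finsupp.single k₀ 1 : Fin n →₀ ℕ) k₀ = β k₀ - 1 := by simp [hβ₁, hj]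
      rw [hb2] at h1
      omega
    · exact c.2.1 _ hg'

theorem sigPieces (hn : 2 ≤ n) (hI : IsMonomial I) [Module.Finite k (MvPolynomial (Fin n) k ⧸ I)] :
    (∀ α : Fin n → ℤ, ((∀ i, 0 ≤ α i) ∨ (∀ i, α i < 0)) → tPiece I α = ⊥) ∧
      (⨆ N : {N : Set (Fin n) // N.Nonempty ∧ N ≠ Set.univ}, sigPiece I N.1) = ⊤ := by
  have h1 : ∀ α : Fin n → ℤ, ((∀ i, 0 ≤ α i) ∨ (∀ i, α i < 0)) → tPiece I α = ⊥ := fun α h =>
    tPiece_eq_bot hI α fun c => h.elim (fun h => coef_eq_zero_of_nonneg h c)
      (fun h => coef_eq_zero_of_neg hn hI h c)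
  refine ⟨h1, eq_top_iff.2 ?_⟩
  rw [← iSup_tPiece_eq_top hI]
  refine iSup_le fun α => ?_
  by_cases hP : (∀ i, 0 ≤ α i) ∨ (∀ i, α i < 0)
  · rw [h1 α hP]
    exact bot_le
  · push Not at hP
    obtain ⟨⟨i, hi⟩, j, hj⟩ := hP
    refine le_trans ?_ (le_iSup _ ⟨{i | α i < 0}, ⟨i, hi⟩, fun h => ?_⟩)
    · exact le_iSup (fun a : {a : Fin n → ℤ // ∀ l, a l < 0 ↔ l ∈ {i | α i < 0}} => tPiece I a.1)
        ⟨α, fun l => Iff.rfl⟩
    · have : α j < 0 := (Set.ext_iff.1 h j).2 trivial
      omega

section Components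

variable (I α)

/-- The point of an exponent. -/
def pt (β : Fin n →₀ ℕ) : Fin n → ℤ := fun i => (β i : ℤ) + α i

theorem pt_mem {β : Fin n →₀ ℕ} (hβ : β ∈ exps I)
    (h : ∀ (_ : ∀ i, 0 ≤ (β i : ℤ) + α i), shift β α ∉ exps I) : pt α β ∈ region I α := by
  refine ⟨⟨β, hβ, rfl⟩, fun ⟨hnn, hmem⟩ => h hnn ?_⟩
  have e : shift β α = Finsupp.equivFunOnFinite.symm fun i => (pt α β i).toNat := rfl
  rw [e]
  exact hmem

/-- The exponent of a point of the region. -/
def expOf (x : ↥(region I α)) : Fin n →₀ ℕ := x.2.1.choose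

variable {I α}

theorem expOf_mem (x : ↥(region I α)) : expOf I α x ∈ exps I := x.2.1.choose_spec.1

theorem pt_expOf (x : ↥(region I α)) : pt α (expOf I α x) = x.1 := x.2.1.choose_spec.2.symm

theorem pt_injective : Function.Injective (pt (n := n) α) := fun β β' h => Finsupp.ext fun i => by
  have := congrFun h i
  simp only [pt] at this
  omega

theorem good_expOf (x : ↥(region I α)) : Good I α (expOf I α x) ↔ ∀ i, 0 ≤ x.1 i := by
  have hp := pt_expOf x
  constructor
  · intro h i
    rw [← congrFun hp i]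
    exact h.2.1 i
  · intro h
    have hnn : ∀ i, 0 ≤ (expOf I α x i : ℤ) + α i := fun i => by
      have := congrFun hp i
      simp only [pt] at this
      have := h i
      omega
    refine ⟨expOf_mem x, hnn, fun hmem => x.2.2 ⟨h, ?_⟩⟩
    rw [← hp]
    exact hmem

theorem finite_nonneg (hI : IsMonomial I) [Module.Finite k (MvPolynomial (Fin n) k ⧸ I)] :
    {x : ↥(region I α) | ∀ i, 0 ≤ x.1 i}.Finite := by
  refine Set.Finite.of_finite_image ((finite_compl_exps hI).subset ?_)
    (f := fun x => shift (expOf I α x) α) ?_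
  · rintro _ ⟨x, hx, rfl⟩
    exact ((good_expOf x).2 hx).2.2
  · intro x hx y hy e
    refine Subtype.ext ?_
    rw [← pt_expOf x, ← pt_expOf y]
    funext i
    show (expOf I α x i : ℤ) + α i = (expOf I α y i : ℤ) + α i
    rw [← shift_apply ((good_expOf x).2 hx).2.1 i, ← shift_apply ((good_expOf y).2 hy).2.1 i,
      show shift (expOf I α x) α = shift (expOf I α y) α from e]

variable (I α) in
/-- The graph on the region. -/
abbrev Gr : SimpleGraph ↥(region I α) := (stepGraph (Fin n)).induce (region I α)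

theorem adj_exists {x y : ↥(region I α)} (h : (Gr I α).Adj x y) :
    ∃ i, expOf I α y = expOf I α x + Finsupp.single i 1 ∨
      expOf I α x = expOf I α y + Finsupp.single i 1 := by
  classical
  have h' : x.1 ≠ y.1 ∧ ((∑ i, |x.1 i - y.1 i| = 1) ∨ (∑ i, |y.1 i - x.1 i| = 1)) :=
    (SimpleGraph.fromRel_adj _ _ _).1 (SimpleGraph.induce_adj.1 h)
  have hsum : ∑ i, |x.1 i - y.1 i| = 1 := h'.2.elim id fun e => by
    rw [← e]
    exact Finset.sum_congr rfl fun i _ => abs_sub_comm _ _
  obtain ⟨i, hi⟩ : ∃ i, x.1 i ≠ y.1 i := by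
    by_contra! hcon
    exact h'.1 (funext hcon)
  have hsplit := (Finset.add_sum_erase Finset.univ (fun j => |x.1 j - y.1 j|) (Finset.mem_univ i)).trans hsum

  have hpos : 1 ≤ |x.1 i - y.1 i| := Int.one_le_abs (sub_ne_zero.2 hi)
  have hrest : 0 ≤ ∑ j ∈ Finset.univ.erase i, |x.1 j - y.1 j| := Finset.sum_nonneg fun j _ => abs_nonneg _
  have hzero : ∀ j, j ≠ i → x.1 j = y.1 j := fun j hj => by
    have := (Finset.sum_eq_zero_iff_of_nonneg (fun l _ => abs_nonneg _)).1
      (show ∑ j ∈ Finset.univ.erase i, |x.1 j - y.1 j| = 0 by omega) j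
      (Finset.mem_erase.2 ⟨hj, Finset.mem_univ j⟩)
    exact sub_eq_zero.1 (abs_eq_zero.1 this)
  refine ⟨i, ?_⟩
  have hxi := congrFun (pt_expOf x) i
  have hyi := congrFun (pt_expOf y) i
  simp only [pt] at hxi hyi
  have hone : |x.1 i - y.1 i| = 1 := by omega
  rcases (abs_eq zero_le_one).1 hone with h1 | h1
  · refine Or.inr (Finsupp.ext fun j => ?_)
    by_cases hj : j = i
    · subst hj; simp; omega
    · have a := congrFun (pt_expOf x) j
      have b := congrFun (pt_expOf y) j
      have := hzero j hj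
      simp only [pt] at a b
      simp [Ne.symm hj]
      omega
  · refine Or.inl (Finsupp.ext fun j => ?_)
    by_cases hj : j = i
    · subst hj; simp; omega
    · have a := congrFun (pt_expOf x) j
      have b := congrFun (pt_expOf y) j
      have := hzero j hj
      simp only [pt] at a b
      simp [Ne.symm hj]
      omega

theorem const_step (c : ↥(Coef I α)) (x y : ↥(region I α)) (i : Fin n)
    (e : expOf I α y = expOf I α x + Finsupp.single i 1) :
    (c : (Fin n →₀ ℕ) → k) (expOf I α x) = (c : (Fin n →₀ ℕ) → k) (expOf I α y) := by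
  by_cases hy : Good I α (expOf I α y)
  · rw [e] at hy ⊢
    exact (c.2.2 _ i (expOf_mem x) hy).symm
  · rw [c.2.1 _ hy]
    refine c.2.1 _ fun hx => hy ((good_expOf y).2 fun j => ?_)
    have a := congrFun (pt_expOf y) j
    have b := hx.2.1 j
    simp only [pt, e, Finsupp.add_apply, Nat.cast_add] at a
    omega

theorem const_of_reachable (c : ↥(Coef I α)) {x y : ↥(region I α)} (h : (Gr I α).Reachable x y) :
    (c : (Fin n →₀ ℕ) → k) (expOf I α x) = (c : (Fin n →₀ ℕ) → k) (expOf I α y) := by
  obtain ⟨w⟩ := h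
  induction w with
  | nil => rfl
  | @cons a b _ hab _ ih =>
    rw [← ih]
    obtain ⟨i, hi | hi⟩ := adj_exists hab
    · exact const_step c a b i hi
    · exact (const_step c b a i hi).symm

theorem adj_of_add_single {x y : ↥(region I α)} (i : Fin n) (h : y.1 = x.1 + Pi.single i 1) :
    (Gr I α).Adj x y := by
  classical
  refine SimpleGraph.induce_adj.2 ((SimpleGraph.fromRel_adj _ _ _).2 ⟨fun e => ?_, Or.inr ?_⟩)
  · have := congrFun h i
    simp [e] at this
  · rw [h, Finset.sum_eq_single i (fun j _ hj => by simp [hj]) (by simp)]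
    simp

theorem infinite_of_neg (hn : 2 ≤ n) {x : ↥(region I α)} {i : Fin n} (hi : x.1 i < 0) :
    ¬ ((Gr I α).connectedComponentMk x).supp.Finite := by
  classical
  obtain ⟨j, hj⟩ := exists_ne_of_two_le hn i
  have hmem : ∀ m : ℕ, (x.1 + Pi.single j (m : ℤ) : Fin n → ℤ) ∈ region I α := fun m => by
    have e : (x.1 + Pi.single j (m : ℤ) : Fin n → ℤ) = pt α (expOf I α x + Finsupp.single j m) := by
      funext l
      have := congrFun (pt_expOf x) l
      simp only [pt] at this ⊢
      by_cases hl : l = j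
      · subst hl; simp; omega
      · simp [hl, Ne.symm hl]; omega
    rw [e]
    refine pt_mem I α (exps_add (expOf_mem x) _) fun hnn => ?_
    have h1 := hnn i
    have h2 := congrFun (pt_expOf x) i
    simp [hj] at h1
    simp only [pt] at h2
    omega
  have hreach : ∀ m : ℕ, (Gr I α).Reachable x ⟨_, hmem m⟩ := fun m => by
    induction m with
    | zero =>
      have : (⟨_, hmem 0⟩ : ↥(region I α)) = x := Subtype.ext (by simp)
      rw [this]
    | succ m ih =>
      refine ih.trans (SimpleGraph.Adj.reachable (adj_of_add_single j ?_))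
      show x.1 + Pi.single j ((m + 1 : ℕ) : ℤ) = x.1 + Pi.single j (m : ℤ) + Pi.single j 1
      rw [add_assoc, ← Pi.single_add]
      simp
  intro hfin
  refine Set.infinite_univ (α := ℕ) (Set.Finite.of_finite_image (f := fun m => (⟨_, hmem m⟩ : ↥(region I α)))
    (hfin.subset ?_) fun a _ b _ e => ?_)
  · rintro _ ⟨m, -, rfl⟩
    exact SimpleGraph.ConnectedComponent.sound (hreach m).symm
  · have := congrFun (congrArg Subtype.val e) j
    simpa using this

theorem exists_neg_of_infinite (hI : IsMonomial I) [Module.Finite k (MvPolynomial (Fin n) k ⧸ I)]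
    {C : (Gr I α).ConnectedComponent} (hC : ¬ C.supp.Finite) :
    ∃ y ∈ C.supp, ∃ i, (y : Fin n → ℤ) i < 0 := by
  by_contra! h
  exact hC ((finite_nonneg hI).subset fun y hy => h y hy)

theorem finrank_tPiece (hn : 2 ≤ n) (hI : IsMonomial I) [Module.Finite k (MvPolynomial (Fin n) k ⧸ I)]
    (α : Fin n → ℤ) : Module.finrank k ↥(tPiece I α) = nBddComp I α := by
  classical
  rw [(pieceEquiv hI α).finrank_eq]
  let B := {C : (Gr I α).ConnectedComponent // C.supp.Finite}
  let rep : B → ↥(region I α) := fun C => C.1.nonempty_supp.choose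
  have hrep : ∀ C : B, (Gr I α).connectedComponentMk (rep C) = C.1 := fun C =>
    C.1.nonempty_supp.choose_spec
  let r : ↥(Coef I α) →ₗ[k] (B → k) :=
    { toFun := fun c C => (c : (Fin n →₀ ℕ) → k) (expOf I α (rep C))
      map_add' := fun _ _ => rfl
      map_smul' := fun _ _ => rfl }
  have hneg : ∀ (x : ↥(region I α)), ((Gr I α).connectedComponentMk x).supp.Finite → ∀ i, 0 ≤ x.1 i := by
    intro x hx i
    by_contra h
    exact infinite_of_neg hn (not_le.1 h) hx
  have hinj : Function.Injective r := by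
    rw [injective_iff_map_eq_zero]
    intro c hc
    refine Subtype.ext (funext fun β => ?_)
    by_cases hg : Good I α β
    swap
    · exact c.2.1 β hg
    let x : ↥(region I α) := ⟨pt α β, pt_mem I α hg.1 fun _ => hg.2.2⟩
    have hx : expOf I α x = β := pt_injective (pt_expOf x)
    show (c : (Fin n →₀ ℕ) → k) β = 0
    rw [← hx]
    by_cases hfin : ((Gr I α).connectedComponentMk x).supp.Finite
    · have := congrFun hc ⟨_, hfin⟩
      rw [← const_of_reachable c (SimpleGraph.ConnectedComponent.exact (hrep ⟨_, hfin⟩))]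
      exact this
    · obtain ⟨y, hy, i, hi⟩ := exists_neg_of_infinite hI hfin
      rw [← const_of_reachable c (SimpleGraph.ConnectedComponent.exact hy)]
      refine c.2.1 _ fun h => ?_
      have := (good_expOf y).1 h i
      omega
  have hsurj : Function.Surjective r := by
    intro f
    let val : ↥(region I α) → k := fun x =>
      if hfin : ((Gr I α).connectedComponentMk x).supp.Finite then f ⟨_, hfin⟩ else 0
    let cfun : (Fin n →₀ ℕ) → k := fun β =>
      if hg : Good I α β then val ⟨pt α β, pt_mem I α hg.1 fun _ => hg.2.2⟩ else 0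
    have hc : cfun ∈ Coef I α := by
      refine ⟨fun β hg => dif_neg hg, fun β i hβ hs => ?_⟩
      have hmem : pt α β ∈ region I α := pt_mem I α hβ fun hnn => (good_of_good_succ hβ hs hnn).2.2
      have hadj : (Gr I α).Adj ⟨pt α β, hmem⟩
          ⟨pt α (β + Finsupp.single i 1), pt_mem I α hs.1 fun _ => hs.2.2⟩ := by
        refine adj_of_add_single i (funext fun l => ?_)
        simp only [pt, Finsupp.add_apply, Pi.add_apply, Nat.cast_add]
        by_cases hl : l = i
        · subst hl; simp; omega
        · simp [hl, Ne.symm hl]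
      have hval : ∀ x y : ↥(region I α), (Gr I α).Adj x y → val x = val y := fun x y h => by
        simp only [val]
        rw [SimpleGraph.ConnectedComponent.sound h.reachable]
      simp only [cfun, dif_pos hs]
      rw [← hval _ _ hadj]
      by_cases hg : Good I α β
      · rw [dif_pos hg]
      · rw [dif_neg hg]
        simp only [val]
        rw [dif_neg]
        obtain ⟨l, hl⟩ : ∃ l, pt α β l < 0 := by
          by_contra! h
          exact hg (good_of_good_succ hβ hs h)
        exact infinite_of_neg hn hl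
    refine ⟨⟨cfun, hc⟩, funext fun C => ?_⟩
    show cfun (expOf I α (rep C)) = f C
    have hgood : Good I α (expOf I α (rep C)) := (good_expOf _).2 (hneg _ (by rw [hrep]; exact C.2))
    simp only [cfun, dif_pos hgood]
    have e : (⟨pt α (expOf I α (rep C)), pt_mem I α hgood.1 fun _ => hgood.2.2⟩ : ↥(region I α)) = rep C :=
      Subtype.ext (pt_expOf _)
    rw [e]
    simp only [val]
    rw [dif_pos (by rw [hrep]; exact C.2)]
    exact congrArg f (Subtype.ext (hrep C))
  have hfinB : Finite B := by
    have := (finite_nonneg (α := α) hI).to_subtype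
    refine Finite.of_injective (fun C : B => (⟨rep C, hneg _ (by rw [hrep]; exact C.2)⟩ :
      {x : ↥(region I α) | ∀ i, 0 ≤ x.1 i})) fun C D e => ?_
    have e' : rep C = rep D := congrArg Subtype.val e
    exact Subtype.ext ((hrep C).symm.trans ((congrArg _ e').trans (hrep D)))
  have := Fintype.ofFinite B
  rw [(LinearEquiv.ofBijective r ⟨hinj, hsurj⟩).finrank_eq, Module.finrank_fintype_fun_eq_card,
    ← Nat.card_eq_fintype_card]
  rfl

end Components

end Groth.Agent.H15.HilbTgt.Comp
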