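import Groth.Agent.H15.HilbTgt.Basic
import Mathlib.RingTheory.MvPolynomial.Ideal
import Mathlib.Data.Finsupp.Multiset
import Mathlib.Data.Sym.Card
import Mathlib.Algebra.BigOperators.Fin

/-!
# The tangent pieces at powers of the irrelevant ideal
-/

set_option autoImplicit false

noncomputable section

namespace Groth.Agent.H15.HilbTgt.Pow

open MvPolynomial W4c1hilbpn Groth.Agent.H15.HilbTgt.Basic

universe u

variable {k : Type u} [Field k] {n : ℕ}

local notation "mP" => fun (k : Type _) [Field k] (n r : ℕ) =>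
  (Ideal.span (Set.range (MvPolynomial.X : Fin n → MvPolynomial (Fin n) k))) ^ r

theorem mem_exps (r : ℕ) (β : Fin n →₀ ℕ) : β ∈ exps (mP k n r) ↔ r ≤ β.degree := by
  classical
  show monomial β (1 : k) ∈ idealOfVars (Fin n) k ^ r ↔ _
  rw [mem_pow_idealOfVars_iff, support_monomial, if_neg one_ne_zero]
  simp

theorem isMonomial (r : ℕ) : IsMonomial (mP k n r) := fun _ hp β hβ =>
  (mem_exps r β).2 ((mem_pow_idealOfVars_iff r _).1 hp β hβ)

theorem finite_degree_lt (r : ℕ) : {β : Fin n →₀ ℕ | β.degree < r}.Finite := by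
  refine Set.Finite.of_finite_image (f := fun β => (β : Fin n → ℕ)) ?_ DFunLike.coe_injective.injOn
  refine (Set.Finite.pi fun _ => Set.finite_Iio r).subset ?_
  rintro _ ⟨β, hβ, rfl⟩ i -
  refine lt_of_le_of_lt ?_ (show β.degree < r from hβ)
  rw [Finsupp.degree_eq_sum]
  exact Finset.single_le_sum (fun j _ => Nat.zero_le _) (Finset.mem_univ i)

theorem finite_quot (r : ℕ) : Module.Finite k (MvPolynomial (Fin n) k ⧸ mP k n r) := by
  classical
  let g : MvPolynomial (Fin n) k →ₗ[k] (MvPolynomial (Fin n) k ⧸ mP k n r) :=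
    (Ideal.Quotient.mkₐ k _).toLinearMap
  refine ⟨(finite_degree_lt (n := n) r).toFinset.image (fun β => g (monomial β 1)),
    eq_top_iff.2 fun q _ => ?_⟩
  obtain ⟨p, rfl⟩ := Ideal.Quotient.mk_surjective q
  show g p ∈ _
  rw [as_sum p, map_sum]
  refine sum_mem fun β _ => ?_
  by_cases hβ : β.degree < r
  · rw [show monomial β (coeff β p) = coeff β p • monomial β (1 : k) by simp [smul_monomial], map_smul]
    exact Submodule.smul_mem _ _ (Submodule.subset_span (Finset.mem_image.2
      ⟨β, (finite_degree_lt r).mem_toFinset.2 hβ, rfl⟩))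
  · rw [show g (monomial β (coeff β p)) = 0 from
      Ideal.Quotient.eq_zero_iff_mem.2 (monomial_mem ((mem_exps r β).2 (not_lt.1 hβ)) _)]
    exact zero_mem _

theorem sum_shift {β : Fin n →₀ ℕ} {α : Fin n → ℤ} (h : ∀ i, 0 ≤ (β i : ℤ) + α i) :
    ((shift β α).degree : ℤ) = β.degree + ∑ i, α i := by
  rw [Finsupp.degree_eq_sum, Finsupp.degree_eq_sum, Nat.cast_sum, Nat.cast_sum, ← Finset.sum_add_distrib]
  exact Finset.sum_congr rfl fun i _ => shift_apply h i

theorem good_iff (r : ℕ) (α : Fin n → ℤ) (β : Fin n →₀ ℕ) :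
    Good (mP k n r) α β ↔ r ≤ β.degree ∧ (∀ i, 0 ≤ (β i : ℤ) + α i) ∧
      (β.degree : ℤ) + ∑ i, α i < r := by
  constructor
  · rintro ⟨h1, h2, h3⟩
    rw [mem_exps] at h3
    refine ⟨(mem_exps r β).1 h1, h2, ?_⟩
    have := sum_shift h2
    omega
  · rintro ⟨h1, h2, h3⟩
    refine ⟨(mem_exps r β).2 h1, h2, ?_⟩
    rw [mem_exps]
    have := sum_shift h2
    omega

theorem coef_eq_zero (hn : 2 ≤ n) (r : ℕ) {α : Fin n → ℤ} (hs : ∑ i, α i ≠ -1)
    (c : ↥(Coef (mP k n r) α)) : c = 0 := by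
  refine Subtype.ext (funext fun β => ?_)
  show (c : (Fin n →₀ ℕ) → k) β = 0
  rcases le_or_gt 0 (∑ i, α i) with hnn | hneg
  · refine c.2.1 β fun hg => ?_
    have := (good_iff r α β).1 hg
    omega
  obtain ⟨k₀, hk₀⟩ : ∃ i, α i < 0 := by
    by_contra! h
    exact absurd (Finset.sum_nonneg fun i _ => h i) (not_le.2 hneg)
  have : Nontrivial (Fin n) := Fin.nontrivial_iff_two_le.2 hn
  obtain ⟨j, hj⟩ := exists_ne k₀
  induction h : (shift β α k₀) using Nat.strong_induction_on generalizing β with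
  | _ N ih =>
    by_cases hg : Good (mP k n r) α β
    swap
    · exact c.2.1 β hg
    obtain ⟨h1, h2, h3⟩ := (good_iff r α β).1 hg
    obtain ⟨m, hm⟩ : ∃ m : ℕ, (β.degree : ℤ) + (∑ i, α i) + m + 1 = r :=
      ⟨(r - 1 - (β.degree : ℤ) - ∑ i, α i).toNat, by omega⟩
    have hgood : ∀ t ≤ m, Good (mP k n r) α (β + Finsupp.single j t) := fun t ht => by
      rw [good_iff, map_add, Finsupp.degree_single]
      refine ⟨by omega, fun i => ?_, by omega⟩
      have := h2 i
      simp only [Finsupp.add_apply, Nat.cast_add]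
      omega
    have hval : ∀ t ≤ m, (c : (Fin n →₀ ℕ) → k) (β + Finsupp.single j t) = (c : (Fin n →₀ ℕ) → k) β := by
      intro t
      induction t with
      | zero => simp
      | succ t iht =>
        intro ht
        rw [← iht (by omega), Finsupp.single_add, ← add_assoc]
        exact c.2.2 _ j (exps_add hg.1 _) (by rw [add_assoc, ← Finsupp.single_add]; exact hgood _ ht)
    rw [← hval m le_rfl]
    have hgm := hgood m le_rfl
    set β₁ : Fin n →₀ ℕ := β + Finsupp.single j m with hβ₁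
    have hk : 1 ≤ β k₀ := by
      have := h2 k₀
      omega
    have hb : β₁ k₀ = β k₀ := by simp [hβ₁, hj]
    have e : β₁ - Finsupp.single k₀ 1 + Finsupp.single k₀ 1 = β₁ := Finsupp.ext fun i => by
      by_cases hi : i = k₀
      · subst hi; simp; omega
      · simp [Ne.symm hi]
    have hd1 : β₁.degree = β.degree + m := by rw [hβ₁, map_add, Finsupp.degree_single]
    have hd2 : (β₁ - Finsupp.single k₀ 1).degree + 1 = β₁.degree := by
      have := congrArg Finsupp.degree e
      rwa [map_add, Finsupp.degree_single] at this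
    have hmem : β₁ - Finsupp.single k₀ 1 ∈ exps (mP k n r) := (mem_exps r _).2 (by omega)
    have hstep := c.2.2 (β₁ - Finsupp.single k₀ 1) k₀ hmem (by rw [e]; exact hgm)
    rw [e] at hstep
    rw [hstep]
    by_cases hg' : Good (mP k n r) α (β₁ - Finsupp.single k₀ 1)
    · refine ih _ ?_ _ rfl
      have e1 := shift_apply hg'.2.1 k₀
      have e2 := shift_apply h2 k₀
      have hb2 : (β₁ - Finsupp.single k₀ 1 : Fin n →₀ ℕ) k₀ = β k₀ - 1 := by simp [hb]
      rw [hb2] at e1
      omega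
    · exact c.2.1 _ hg'

theorem card_degree (n m : ℕ) :
    Nat.card {δ : Fin n → ℕ // ∑ i, δ i = m} = Nat.multichoose n m := by
  rw [← Nat.card_congr (Sym.equivNatSumOfFintype (Fin n) m), Nat.card_eq_fintype_card,
    Sym.card_sym_eq_multichoose, Fintype.card_fin]

theorem sum_toNat_sub (α : Fin n → ℤ) :
    (∑ i, (((α i).toNat : ℕ) : ℤ)) - ∑ i, (((-α i).toNat : ℕ) : ℤ) = ∑ i, α i := by
  rw [← Finset.sum_sub_distrib]
  exact Finset.sum_congr rfl fun i _ => by omega

theorem finrank_tPiece (hn : 2 ≤ n) (r : ℕ) (α : Fin n → ℤ) :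
    Module.finrank k ↥(tPiece (mP k n r) α) =
      if (∑ i, α i = -1 ∧ ∑ i, (-α i).toNat ≤ r)
        then Nat.choose (n + r - (∑ i, (-α i).toNat) - 1) (n - 1) else 0 := by
  classical
  rw [(pieceEquiv (isMonomial r) α).finrank_eq]
  have := finite_quot (k := k) (n := n) r
  by_cases hs : ∑ i, α i = -1
  swap
  · rw [if_neg (fun h => hs h.1)]
    have : Subsingleton ↥(Coef (mP k n r) α) :=
      subsingleton_of_forall_eq 0 fun c => coef_eq_zero hn r hs c
    exact Module.finrank_zero_of_subsingleton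
  set G := {β : Fin n →₀ ℕ | Good (mP k n r) α β} with hG
  have hGfin : G.Finite := finite_good (isMonomial r) α
  have := hGfin.fintype
  have hnoedge : ∀ β i, β ∈ exps (mP k n r) → ¬ Good (mP k n r) α (β + Finsupp.single i 1) := by
    intro β i hβ hgood
    have := ((good_iff r α _).1 hgood).2.2
    rw [map_add, Finsupp.degree_single] at this
    have := (mem_exps r β).1 hβ
    omega
  let e : ↥(Coef (mP k n r) α) ≃ₗ[k] (G → k) :=
    { toFun := fun c β => (c : (Fin n →₀ ℕ) → k) β
      map_add' := fun _ _ => rfl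
      map_smul' := fun _ _ => rfl
      invFun := fun f => ⟨fun β => if h : β ∈ G then f ⟨β, h⟩ else 0,
        ⟨fun β h => dif_neg h, fun β i hβ hgood => absurd hgood (hnoedge β i hβ)⟩⟩
      left_inv := fun c => Subtype.ext (funext fun β => by
        by_cases h : β ∈ G
        · simp [h]
        · simp only [dif_neg h]; exact (c.2.1 β h).symm)
      right_inv := fun f => funext fun β => by simp }
  rw [e.finrank_eq, Module.finrank_fintype_fun_eq_card, ← Nat.card_eq_fintype_card]
  set w := ∑ i, (-α i).toNat with hw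
  have hwz : (∑ i, (((-α i).toNat : ℕ) : ℤ)) = (w : ℤ) := by rw [hw, Nat.cast_sum]
  have hP : ((∑ i, (α i).toNat : ℕ) : ℤ) = (w : ℤ) - 1 := by
    have := sum_toNat_sub α
    rw [hwz] at this
    rw [Nat.cast_sum]
    omega
  have hdeg : ∀ β ∈ G, w ≤ r ∧ (∑ i, ((β i : ℤ) + α i - ((α i).toNat : ℕ)).toNat) = r - w := by
    intro β hβ
    obtain ⟨h1, h2, h3⟩ := (good_iff r α β).1 hβ
    have hd : (β.degree : ℤ) = r := by omega
    have hterm : ∀ i, (((β i : ℤ) + α i - ((α i).toNat : ℕ)).toNat : ℤ) =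
        (β i : ℤ) + α i - ((α i).toNat : ℕ) := fun i => by
      have := h2 i
      omega
    have : ((∑ i, ((β i : ℤ) + α i - ((α i).toNat : ℕ)).toNat : ℕ) : ℤ) = (r : ℤ) - w := by
      rw [Nat.cast_sum, Finset.sum_congr rfl fun i _ => hterm i, Finset.sum_sub_distrib,
        Finset.sum_add_distrib, ← Nat.cast_sum, ← Finsupp.degree_eq_sum, ← Nat.cast_sum, hd, hP, hs]
      ring
    omega
  by_cases hwr : w ≤ r
  · rw [if_pos ⟨hs, hwr⟩]
    have hbij : G ≃ {δ : Fin n → ℕ // ∑ i, δ i = r - w} :=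
      { toFun := fun β => ⟨fun i => ((β.1 i : ℤ) + α i - ((α i).toNat : ℕ)).toNat, (hdeg β.1 β.2).2⟩
        invFun := fun δ => ⟨Finsupp.equivFunOnFinite.symm fun i =>
            δ.1 i + (-α i).toNat, by
          show Good (mP k n r) α _
          rw [good_iff, Finsupp.degree_eq_sum]
          simp only [Finsupp.equivFunOnFinite_symm_apply_apply, Finset.sum_add_distrib, δ.2, ← hw]
          refine ⟨by omega, fun i => ?_, by omega⟩
          push_cast
          omega⟩
        left_inv := fun β => Subtype.ext (Finsupp.ext fun i => by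
          have := ((good_iff r α β.1).1 β.2).2.1 i
          simp only [Finsupp.equivFunOnFinite_symm_apply_apply]
          omega)
        right_inv := fun δ => Subtype.ext (funext fun i => by
          simp only [Finsupp.equivFunOnFinite_symm_apply_apply]
          push_cast
          omega) }
    rw [Nat.card_congr hbij, card_degree, Nat.multichoose_eq]
    rw [show n + r - w - 1 = n + (r - w) - 1 by omega]
    exact Nat.choose_symm_of_eq_add (by omega)
  · rw [if_neg fun h => hwr h.2]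
    have : IsEmpty G := ⟨fun β => hwr (hdeg β.1 β.2).1⟩
    exact Nat.card_of_isEmpty

theorem sum_choose (r : ℕ) :
    (∑ w ∈ Finset.range r, (r + 1 - w).choose 2 = (r + 2).choose 3) ∧
    (∑ w ∈ Finset.range r, (w + 1) * (r + 1 - w).choose 2 = (r + 3).choose 4) ∧
    (∑ w ∈ Finset.range r, w * (r + 1 - w).choose 2 = (r + 2).choose 4) := by
  induction r with
  | zero => decide
  | succ r ih =>
    obtain ⟨h1, h2, h3⟩ := ih
    have key : ∀ f : ℕ → ℕ, ∑ w ∈ Finset.range (r + 1), f w * (r + 1 + 1 - w).choose 2 =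
        (∑ w ∈ Finset.range r, f (w + 1) * (r + 1 - w).choose 2) + f 0 * (r + 2).choose 2 := fun f => by
      rw [Finset.sum_range_succ']
      refine congrArg₂ (· + ·) (Finset.sum_congr rfl fun w hw => ?_) rfl
      rw [show r + 1 + 1 - (w + 1) = r + 1 - w by omega]
    have k1 := key fun _ => 1
    have k2 := key fun w => w + 1
    have k3 := key fun w => w
    simp only [one_mul, zero_mul, zero_add, add_zero] at k1 k2 k3
    have p3 : (r + 1 + 2).choose 3 = (r + 2).choose 2 + (r + 2).choose 3 := Nat.choose_succ_succ' _ _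
    have p4 : (r + 1 + 3).choose 4 = (r + 3).choose 3 + (r + 3).choose 4 := Nat.choose_succ_succ' _ _
    have p4' : (r + 1 + 2).choose 4 = (r + 2).choose 3 + (r + 2).choose 4 := Nat.choose_succ_succ' _ _
    have p3' : (r + 3).choose 3 = (r + 2).choose 2 + (r + 2).choose 3 := Nat.choose_succ_succ' _ _
    have p4'' : (r + 3).choose 4 = (r + 2).choose 3 + (r + 2).choose 4 := Nat.choose_succ_succ' _ _
    refine ⟨?_, ?_, ?_⟩
    · rw [k1, h1, p3, add_comm]
    · rw [k2, p4, p3']
      have : ∑ w ∈ Finset.range r, (w + 1 + 1) * (r + 1 - w).choose 2 =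
          (r + 3).choose 4 + (r + 2).choose 3 := by
        rw [← h2, ← h1, ← Finset.sum_add_distrib]
        exact Finset.sum_congr rfl fun w _ => by ring
      rw [this]
      ring
    · rw [k3, h2, p4'']

/-- The multidegree with entry `x` at `i` and `y`, `z` at the two following indices. -/
def vec3 (i : Fin 3) (x y z : ℤ) : Fin 3 → ℤ := fun l => if l = i then x else if l = i + 1 then y else z

theorem vec3_self (i : Fin 3) (x y z : ℤ) : vec3 i x y z i = x := if_pos rfl
theorem vec3_one (i : Fin 3) (x y z : ℤ) : vec3 i x y z (i + 1) = y := by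
  fin_cases i <;> rfl
theorem vec3_two (i : Fin 3) (x y z : ℤ) : vec3 i x y z (i + 2) = z := by
  fin_cases i <;> rfl

theorem forall_three (i : Fin 3) {P : Fin 3 → Prop} : (∀ l, P l) ↔ P i ∧ P (i + 1) ∧ P (i + 2) := by
  refine ⟨fun h => ⟨h _, h _, h _⟩, fun ⟨h1, h2, h3⟩ l => ?_⟩
  fin_cases i <;> fin_cases l <;> assumption

theorem sum_three {M : Type*} [AddCommMonoid M] (i : Fin 3) (f : Fin 3 → M) :
    ∑ l, f l = f i + f (i + 1) + f (i + 2) := by
  rw [Fin.sum_univ_three]
  fin_cases i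
  · rfl
  · show _ = f 1 + f 2 + f 0
    abel
  · show _ = f 2 + f 0 + f 1
    abel

theorem vec3_eq (i : Fin 3) (α : Fin 3 → ℤ) : vec3 i (α i) (α (i + 1)) (α (i + 2)) = α :=
  funext ((forall_three i).2 ⟨vec3_self .., vec3_one .., vec3_two ..⟩)

/-- Multidegrees of pieces of pattern `{i}`. -/
def degsOne (i : Fin 3) (r : ℕ) : Finset (Fin 3 → ℤ) :=
  ((Finset.range r).sigma fun w => Finset.range (w + 1)).image fun p : (_ : ℕ) × ℕ =>
    vec3 i (-(p.1 : ℤ) - 1) p.2 ((p.1 : ℤ) - p.2)

/-- Multidegrees of pieces of pattern `{i}ᶜ`. -/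
def degsTwo (i : Fin 3) (r : ℕ) : Finset (Fin 3 → ℤ) :=
  ((Finset.range r).sigma fun w => Finset.range w).image fun p : (_ : ℕ) × ℕ =>
    vec3 i (p.1 : ℤ) (-(p.2 : ℤ) - 1) ((p.2 : ℤ) - p.1)

theorem mem_degsOne (i : Fin 3) (r : ℕ) (α : Fin 3 → ℤ) :
    α ∈ degsOne i r ↔ (∀ l, α l < 0 ↔ l = i) ∧ ∑ l, α l = -1 ∧ ∑ l, (-α l).toNat ≤ r := by
  simp only [degsOne, Finset.mem_image, Finset.mem_sigma, Finset.mem_range, forall_three i,
    sum_three i]
  have n1 : i + 1 ≠ i := by fin_cases i <;> decide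
  have n2 : i + 2 ≠ i := by fin_cases i <;> decide
  simp only [n1, n2, iff_false, iff_true, not_lt]
  constructor
  · rintro ⟨⟨w, t⟩, ⟨hw, ht⟩, rfl⟩
    simp only [vec3_self, vec3_one, vec3_two] at hw ht ⊢
    omega
  · rintro ⟨⟨h0, h1, h2⟩, hs, hr⟩
    refine ⟨⟨(-α i).toNat - 1, (α (i + 1)).toNat⟩, ⟨by dsimp only; omega, by dsimp only; omega⟩, ?_⟩
    conv_rhs => rw [← vec3_eq i α]
    dsimp only
    congr 1 <;> omega

theorem mem_degsTwo (i : Fin 3) (r : ℕ) (α : Fin 3 → ℤ) :
    α ∈ degsTwo i r ↔ (∀ l, α l < 0 ↔ l ≠ i) ∧ ∑ l, α l = -1 ∧ ∑ l, (-α l).toNat ≤ r := by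
  simp only [degsTwo, Finset.mem_image, Finset.mem_sigma, Finset.mem_range, forall_three i,
    sum_three i]
  have n1 : i + 1 ≠ i := by fin_cases i <;> decide
  have n2 : i + 2 ≠ i := by fin_cases i <;> decide
  simp only [n1, n2, ne_eq, not_false_iff, not_true, iff_false, iff_true, not_lt]
  constructor
  · rintro ⟨⟨w, t⟩, ⟨hw, ht⟩, rfl⟩
    simp only [vec3_self, vec3_one, vec3_two] at hw ht ⊢
    omega
  · rintro ⟨⟨h0, h1, h2⟩, hs, hr⟩
    refine ⟨⟨(α i).toNat, (-α (i + 1)).toNat - 1⟩, ⟨by dsimp only; omega, by dsimp only; omega⟩, ?_⟩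
    conv_rhs => rw [← vec3_eq i α]
    dsimp only
    congr 1 <;> omega

theorem coef_eq_zero_of_bad (r : ℕ) (α : Fin 3 → ℤ) (h : ¬ (∑ l, α l = -1 ∧ ∑ l, (-α l).toNat ≤ r))
    (c : ↥(Coef (mP k 3 r) α)) : c = 0 := by
  have hr := finrank_tPiece (k := k) (le_of_lt (by omega : 2 < 3)) r α
  rw [if_neg h, (pieceEquiv (isMonomial r) α).finrank_eq] at hr
  have := finite_quot (k := k) (n := 3) r
  have := finite_coef (isMonomial (k := k) (n := 3) r) α
  have := Module.finrank_zero_iff.1 hr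
  exact Subsingleton.elim _ _

theorem finrank_coef_three (r : ℕ) (α : Fin 3 → ℤ) (h : ∑ l, α l = -1 ∧ ∑ l, (-α l).toNat ≤ r) :
    Module.finrank k ↥(Coef (mP k 3 r) α) = (r + 2 - ∑ l, (-α l).toNat).choose 2 := by
  rw [← (pieceEquiv (isMonomial r) α).finrank_eq, finrank_tPiece (by omega) r α, if_pos h]
  exact congrArg₂ Nat.choose (by omega) (by omega)

theorem sum_degsOne (i : Fin 3) (r : ℕ) :
    ∑ α ∈ degsOne i r, Module.finrank k ↥(Coef (mP k 3 r) α) = (r + 3).choose 4 := by
  rw [degsOne, Finset.sum_image ?_, Finset.sum_sigma, ← (sum_choose r).2.1]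
  · refine Finset.sum_congr rfl fun w hw => ?_
    rw [← Finset.card_range (w + 1), ← smul_eq_mul, ← Finset.sum_const, Finset.card_range]
    refine Finset.sum_congr rfl fun t ht => ?_
    rw [Finset.mem_range] at hw ht
    rw [finrank_coef_three r _ (by simp only [sum_three i, vec3_self, vec3_one, vec3_two]; omega)]
    congr 1
    simp only [sum_three i, vec3_self, vec3_one, vec3_two]
    omega
  · rintro ⟨w, t⟩ _ ⟨w', t'⟩ _ e
    have e1 := congrFun e i
    have e2 := congrFun e (i + 1)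
    simp only [vec3_self, vec3_one] at e1 e2
    obtain rfl : w = w' := by omega
    obtain rfl : t = t' := by omega
    rfl

theorem sum_degsTwo (i : Fin 3) (r : ℕ) :
    ∑ α ∈ degsTwo i r, Module.finrank k ↥(Coef (mP k 3 r) α) = (r + 2).choose 4 := by
  rw [degsTwo, Finset.sum_image ?_, Finset.sum_sigma, ← (sum_choose r).2.2]
  · refine Finset.sum_congr rfl fun w hw => ?_
    rw [← Finset.card_range w, ← smul_eq_mul, ← Finset.sum_const, Finset.card_range]
    refine Finset.sum_congr rfl fun t ht => ?_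
    rw [Finset.mem_range] at hw ht
    rw [finrank_coef_three r _ (by simp only [sum_three i, vec3_self, vec3_one, vec3_two]; omega)]
    congr 1
    simp only [sum_three i, vec3_self, vec3_one, vec3_two]
    omega
  · rintro ⟨w, t⟩ _ ⟨w', t'⟩ _ e
    have e1 := congrFun e i
    have e2 := congrFun e (i + 1)
    simp only [vec3_self, vec3_one] at e1 e2
    obtain rfl : w = w' := by omega
    obtain rfl : t = t' := by omega
    rfl

theorem total_identity (r : ℕ) :
    3 * ((r + 3).choose 4 + (r + 2).choose 4) = (r + 2).choose 2 * (r + 1).choose 2 := by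
  induction r with
  | zero => decide
  | succ r ih =>
    have a1 : (r + 1 + 3).choose 4 = (r + 3).choose 3 + (r + 3).choose 4 := Nat.choose_succ_succ' _ _
    have a2 : (r + 1 + 2).choose 4 = (r + 2).choose 3 + (r + 2).choose 4 := Nat.choose_succ_succ' _ _
    have a3 : (r + 3).choose 3 = (r + 2).choose 2 + (r + 2).choose 3 := Nat.choose_succ_succ' _ _
    have a4 : (r + 1 + 2).choose 2 = (r + 2).choose 1 + (r + 2).choose 2 := Nat.choose_succ_succ' _ _
    have a5 : (r + 2).choose 2 = (r + 1).choose 1 + (r + 1).choose 2 := Nat.choose_succ_succ' _ _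
    have a6 : (r + 1 + 1).choose 2 = (r + 2).choose 2 := rfl
    have b : 3 * (r + 2).choose 3 = r * (r + 2).choose 2 := by
      have := Nat.choose_succ_right_eq (r + 2) 2
      rw [show r + 2 - 2 = r by omega] at this
      linarith
    rw [Nat.choose_one_right] at a4 a5
    rw [a1, a2, a3, a4, a6]
    nlinarith [ih, b, a5]

theorem pattern_key : ∀ (j j' : Fin 3) (b b' : Bool),
    (∀ l : Fin 3, (decide (l = j) == b) = (decide (l = j') == b')) → (j, b) = (j', b') := by decide

theorem pattern_injective (p q : Fin 3 × Bool)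
    (e : ∀ l, (if p.2 then l = p.1 else l ≠ p.1) ↔ (if q.2 then l = q.1 else l ≠ q.1)) : p = q := by
  obtain ⟨j, b⟩ := p
  obtain ⟨j', b'⟩ := q
  refine pattern_key j j' b b' fun l => ?_
  have h' := e l
  by_cases h1 : l = j <;> by_cases h2 : l = j' <;> cases b <;> cases b' <;>
    simp [h1, h2] at h' ⊢ <;> simp_all

theorem exists_pattern (r : ℕ) {α : Fin 3 → ℤ} (h : ∑ l, α l = -1 ∧ ∑ l, (-α l).toNat ≤ r) :
    ∃ i, α ∈ degsOne i r ∨ α ∈ degsTwo i r := by
  have hsum := h.1
  rw [Fin.sum_univ_three] at hsum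
  by_cases c0 : α 0 < 0 <;> by_cases c1 : α 1 < 0 <;> by_cases c2 : α 2 < 0
  · exfalso; omega
  · exact ⟨2, Or.inr ((mem_degsTwo 2 r α).2 ⟨fun l => by fin_cases l <;> simp <;> omega, h⟩)⟩
  · exact ⟨1, Or.inr ((mem_degsTwo 1 r α).2 ⟨fun l => by fin_cases l <;> simp <;> omega, h⟩)⟩
  · exact ⟨0, Or.inl ((mem_degsOne 0 r α).2 ⟨fun l => by fin_cases l <;> simp <;> omega, h⟩)⟩
  · exact ⟨0, Or.inr ((mem_degsTwo 0 r α).2 ⟨fun l => by fin_cases l <;> simp <;> omega, h⟩)⟩
  · exact ⟨1, Or.inl ((mem_degsOne 1 r α).2 ⟨fun l => by fin_cases l <;> simp <;> omega, h⟩)⟩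
  · exact ⟨2, Or.inl ((mem_degsOne 2 r α).2 ⟨fun l => by fin_cases l <;> simp <;> omega, h⟩)⟩
  · exfalso; omega

theorem finrank_three (r : ℕ) (i : Fin 3) :
    Module.finrank k ↥(sigPiece (mP k 3 r) {i}) = (r + 3).choose 4 ∧
      Module.finrank k ↥(sigPiece (mP k 3 r) ({i}ᶜ : Set (Fin 3))) = (r + 2).choose 4 ∧
        Module.finrank k (Tgt (mP k 3 r)) = (r + 2).choose 2 * (r + 1).choose 2 := by
  classical
  have := finite_quot (k := k) (n := 3) r
  refine ⟨?_, ?_, ?_⟩
  · rw [sigPiece, finrank_iSup (isMonomial r) (fun α => ∀ l, α l < 0 ↔ l ∈ ({i} : Set (Fin 3))) (degsOne i r)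
      (fun α hα => by simpa using ((mem_degsOne i r α).1 hα).1)
      (fun α hP hα => coef_eq_zero_of_bad r α fun h => hα ((mem_degsOne i r α).2 ⟨by simpa using hP, h⟩))]
    exact sum_degsOne i r
  · rw [sigPiece, finrank_iSup (isMonomial r) (fun α => ∀ l, α l < 0 ↔ l ∈ ({i}ᶜ : Set (Fin 3))) (degsTwo i r)
      (fun α hα => by simpa using ((mem_degsTwo i r α).1 hα).1)
      (fun α hP hα => coef_eq_zero_of_bad r α fun h => hα ((mem_degsTwo i r α).2 ⟨by simpa using hP, h⟩))]
    exact sum_degsTwo i r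
  · let F : Fin 3 × Bool → Finset (Fin 3 → ℤ) := fun p => cond p.2 (degsOne p.1 r) (degsTwo p.1 r)
    have hpat : ∀ p, ∀ α ∈ F p, ∀ l, α l < 0 ↔ (if p.2 then l = p.1 else l ≠ p.1) := by
      rintro ⟨j, b⟩ α hα
      cases b
      · simpa using ((mem_degsTwo j r α).1 hα).1
      · simpa using ((mem_degsOne j r α).1 hα).1
    have hdisj : ((Finset.univ : Finset (Fin 3 × Bool)) : Set (Fin 3 × Bool)).PairwiseDisjoint F := by
      intro p _ q _ hpq
      simp only [Function.onFun, Finset.disjoint_left]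
      intro α hp hq
      refine hpq ?_
      have e : ∀ l, (if p.2 then l = p.1 else l ≠ p.1) ↔ (if q.2 then l = q.1 else l ≠ q.1) := fun l =>
        (hpat p α hp l).symm.trans (hpat q α hq l)
      exact pattern_injective p q e
    have htop : (⨆ α : {α : Fin 3 → ℤ // True}, tPiece (mP k 3 r) α.1) = ⊤ := by
      rw [← iSup_tPiece_eq_top (isMonomial (k := k) (n := 3) r)]
      exact le_antisymm (iSup_le fun α => le_iSup (fun α => tPiece (mP k 3 r) α) α.1)
        (iSup_le fun α => le_iSup (fun α : {α : Fin 3 → ℤ // True} => tPiece (mP k 3 r) α.1) ⟨α, trivial⟩)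
    have h := finrank_iSup (isMonomial (k := k) (n := 3) r) (fun _ => True) (Finset.univ.biUnion F)
      (fun _ _ => trivial) fun α _ hα c => by
        refine coef_eq_zero_of_bad r α (fun h => hα ?_) c
        rw [Finset.mem_biUnion]
        obtain ⟨i', hi' | hi'⟩ := exists_pattern r h
        · exact ⟨(i', true), Finset.mem_univ _, hi'⟩
        · exact ⟨(i', false), Finset.mem_univ _, hi'⟩
    rw [htop, finrank_top, Finset.sum_biUnion hdisj, Fintype.sum_prod_type] at h
    simp only [Fintype.sum_bool, F, cond_true, cond_false, sum_degsOne, sum_degsTwo, Finset.sum_const,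
      Finset.card_univ, Fintype.card_fin, smul_eq_mul] at h
    rw [h, total_identity]

end Groth.Agent.H15.HilbTgt.Pow
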