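import Groth.Agent.H15.HilbTgt.Basic
import Mathlib.Data.Finsupp.Fin
import Mathlib.Algebra.MvPolynomial.Rename
import Mathlib.Algebra.BigOperators.Finprod

/-!
# Staircases and slices in three variables
-/

set_option autoImplicit false

noncomputable section

namespace Groth.Agent.H15.HilbTgt.Stair

open MvPolynomial W4c1hilbpn Groth.Agent.H15.HilbTgt.Basic

universe u

variable {k : Type u} [Field k]

@[simp] theorem e3_zero (a b c : ℕ) : e3 a b c 0 = a := by simp [e3]
@[simp] theorem e3_one (a b c : ℕ) : e3 a b c 1 = b := by simp [e3]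
@[simp] theorem e3_two (a b c : ℕ) : e3 a b c 2 = c := by simp [e3]

theorem fin3_ext {β γ : Fin 3 →₀ ℕ} (h0 : β 0 = γ 0) (h1 : β 1 = γ 1) (h2 : β 2 = γ 2) : β = γ :=
  Finsupp.ext fun i => by fin_cases i <;> assumption

theorem e3_le {a b c a' b' c' : ℕ} (ha : a ≤ a') (hb : b ≤ b') (hc : c ≤ c') :
    e3 a b c ≤ e3 a' b' c' := fun i => by fin_cases i <;> simpa using by assumption

theorem eq_e3 (γ : Fin 3 →₀ ℕ) : e3 (γ 0) (γ 1) (γ 2) = γ := fin3_ext (by simp) (by simp) (by simp)

variable {I : Ideal (MvPolynomial (Fin 3) k)}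

theorem finite_stairZ (hI : IsMonomial I) [Module.Finite k (MvPolynomial (Fin 3) k ⧸ I)] (i j : ℕ) :
    {c : ℕ | e3 i j c ∉ exps I}.Finite := by
  refine ((finite_compl_exps hI).image fun γ => γ 2).subset ?_
  exact fun c hc => ⟨e3 i j c, hc, e3_two i j c⟩

theorem finite_stairY (hI : IsMonomial I) [Module.Finite k (MvPolynomial (Fin 3) k ⧸ I)] (i j : ℕ) :
    {c : ℕ | e3 i c j ∉ exps I}.Finite := by
  refine ((finite_compl_exps hI).image fun γ => γ 1).subset ?_
  exact fun c hc => ⟨e3 i c j, hc, e3_one i c j⟩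

theorem stair_le (hI : IsStronglyStable I) [Module.Finite k (MvPolynomial (Fin 3) k ⧸ I)] (i j : ℕ) :
    stairZ I (i + 1) j ≤ stairZ I i (j + 1) ∧ stairY I (i + 1) j ≤ stairY I i (j + 1) := by
  constructor
  · refine Nat.card_mono (finite_stairZ hI.1 i (j + 1)) fun c hc h => hc ?_
    have := hI.2 _ h 0 1 (by decide) (by simp)
    rwa [show e3 i (j + 1) c - Finsupp.single 1 1 + Finsupp.single 0 1 = e3 (i + 1) j c from
      fin3_ext (by simp) (by simp) (by simp)] at this
  · refine Nat.card_mono (finite_stairY hI.1 i (j + 1)) fun c hc h => hc ?_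
    have := hI.2 _ h 0 2 (by decide) (by simp)
    rwa [show e3 i c (j + 1) - Finsupp.single 2 1 + Finsupp.single 0 1 = e3 (i + 1) c j from
      fin3_ext (by simp) (by simp) (by simp)] at this

theorem notMem_exps_iff (hI : IsMonomial I) [Module.Finite k (MvPolynomial (Fin 3) k ⧸ I)]
    (i j c : ℕ) : e3 i j c ∉ exps I ↔ c < stairZ I i j := by
  classical
  have hfin := finite_stairZ hI i j
  obtain ⟨b, hb⟩ : ∃ b, e3 i j b ∈ exps I := by
    by_contra! h
    exact Set.infinite_univ (hfin.subset fun c _ => h c)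
  have hex : ∃ b, e3 i j b ∈ exps I := ⟨b, hb⟩
  have hset : {c : ℕ | e3 i j c ∉ exps I} = Set.Iio (Nat.find hex) := by
    ext c
    constructor
    · intro hc
      by_contra hlt
      exact hc (exps_mono (Nat.find_spec hex) (e3_le le_rfl le_rfl (not_lt.1 hlt)))
    · exact fun hc => Nat.find_min hex hc
  have hcard : stairZ I i j = Nat.find hex := by
    show Nat.card {c : ℕ | e3 i j c ∉ exps I} = _
    rw [hset, ← Finset.coe_Iio, Nat.card_coe_set_eq, Set.ncard_coe_finset, Nat.card_Iio]
  rw [hcard]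
  exact Set.ext_iff.1 hset c

theorem slice_mem_iff (hI : IsMonomial I) (a : ℕ) (f : MvPolynomial (Fin 2) k) :
    f ∈ sliceX I a ↔ ∀ β ∈ f.support, Finsupp.cons a β ∈ exps I := by
  classical
  have key : ∀ (β : Fin 2 →₀ ℕ) (r : k), rename Fin.succ (monomial β r) * X 0 ^ a =
      monomial (Finsupp.cons a β) r := by
    intro β r
    rw [rename_monomial, X_pow_eq_monomial, monomial_mul, mul_one]
    refine congrArg (fun t => monomial t r) (Finsupp.ext fun i => ?_)
    induction i using Fin.cases with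
    | zero =>
      rw [Finsupp.add_apply, Finsupp.mapDomain_notin_range]
      · simp
      · rintro ⟨x, hx⟩; exact Fin.succ_ne_zero x hx
    | succ i =>
      rw [Finsupp.add_apply, Finsupp.mapDomain_apply (Fin.succ_injective 2)]
      simp [(Fin.succ_ne_zero i).symm, Fin.succ_ne_zero i]
  have hf : rename Fin.succ f * X 0 ^ a = ∑ β ∈ f.support, monomial (Finsupp.cons a β) (coeff β f) := by
    conv_lhs => rw [as_sum f, map_sum, Finset.sum_mul]
    exact Finset.sum_congr rfl fun β _ => key β _
  rw [sliceX, Ideal.mem_comap, Submodule.mem_colon_singleton, smul_eq_mul]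
  show rename Fin.succ f * X 0 ^ a ∈ I ↔ _
  rw [hf]
  refine ⟨fun h β hβ => hI _ h _ ?_, fun h => sum_mem fun β hβ => monomial_mem (h β hβ) _⟩
  rw [mem_support_iff, coeff_sum, Finset.sum_eq_single β]
  · rw [coeff_monomial, if_pos rfl]
    exact mem_support_iff.1 hβ
  · intro γ _ hne
    rw [coeff_monomial, if_neg fun e => hne ?_]
    refine Finsupp.ext fun i => ?_
    have := DFunLike.congr_fun e i.succ
    simpa using this
  · exact fun h' => absurd hβ h'

theorem slice_exps (hI : IsMonomial I) (a : ℕ) (β : Fin 2 →₀ ℕ) :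
    β ∈ exps (sliceX I a) ↔ Finsupp.cons a β ∈ exps I := by
  classical
  show monomial β (1 : k) ∈ sliceX I a ↔ _
  rw [slice_mem_iff hI, support_monomial, if_neg one_ne_zero]
  simp

theorem slice_stable (hI : IsStronglyStable I) (a : ℕ) :
    IsStronglyStable (sliceX I a) ∧
      (sliceX I a).colon {(X 0 : MvPolynomial (Fin 2) k)} ≤ sliceX I (a + 1) := by
  refine ⟨⟨fun p hp β hβ => (slice_exps hI.1 a β).2 ((slice_mem_iff hI.1 a p).1 hp β hβ),
    fun β hβ i j hij hj => ?_⟩, fun f hf => ?_⟩
  · rw [slice_exps hI.1] at hβ ⊢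
    have := hI.2 _ hβ i.succ j.succ (Fin.succ_lt_succ_iff.2 hij) (by simpa using hj)
    convert this using 1
    refine Finsupp.ext fun l => ?_
    induction l using Fin.cases with
    | zero => simp [(Fin.succ_ne_zero i).symm, (Fin.succ_ne_zero j).symm]
    | succ l => simp [Finsupp.single_apply]
  · rw [Submodule.mem_colon_singleton, smul_eq_mul, mul_comm, slice_mem_iff hI.1] at hf
    rw [slice_mem_iff hI.1]
    intro β hβ
    have hmem := hf (Finsupp.single 0 1 + β) (by
      rw [mem_support_iff, coeff_X_mul]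
      exact mem_support_iff.1 hβ)
    have := hI.2 _ hmem 0 1 (by decide) (by
      show 0 < Finsupp.cons a (Finsupp.single 0 1 + β) (Fin.succ 0)
      rw [Finsupp.cons_succ]
      simp)
    convert this using 1
    refine fin3_ext ?_ ?_ ?_
    · simp
    · show Finsupp.cons (a + 1) β (Fin.succ 0) = _
      simp only [Finsupp.add_apply, Finsupp.tsub_apply,
        show (1 : Fin 3) = Fin.succ 0 from rfl, Finsupp.cons_succ]
      simp
    · show Finsupp.cons (a + 1) β (Fin.succ 1) = _
      simp only [Finsupp.add_apply, Finsupp.tsub_apply,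
        show (2 : Fin 3) = Fin.succ 1 from rfl, Finsupp.cons_succ]
      simp

/-- Points that are maximal in the first two directions of their component. -/
def tops (I : Ideal (MvPolynomial (Fin 3) k)) (α : Fin 3 → ℤ) : Set (Fin 3 →₀ ℕ) :=
  {β | Good I α β ∧ shift β α + Finsupp.single 0 1 ∈ exps I ∧ shift β α + Finsupp.single 1 1 ∈ exps I ∧
    (0 < β 2 → β - Finsupp.single 2 1 ∉ exps I)}

theorem finrank_coef_le (hI : IsMonomial I) [Module.Finite k (MvPolynomial (Fin 3) k ⧸ I)]
    (α : Fin 3 → ℤ) : Module.finrank k ↥(Coef I α) ≤ Nat.card (tops I α) := by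
  classical
  have hfin : (tops I α).Finite := (finite_good hI α).subset fun β hβ => hβ.1
  have := hfin.fintype
  let r : ↥(Coef I α) →ₗ[k] (tops I α → k) :=
    { toFun := fun c β => (c : (Fin 3 →₀ ℕ) → k) β
      map_add' := fun _ _ => rfl
      map_smul' := fun _ _ => rfl }
  have hinj : Function.Injective r := by
    rw [injective_iff_map_eq_zero]
    intro c hc
    by_contra hne
    let S := (finite_good hI α).toFinset.filter fun β => (c : (Fin 3 →₀ ℕ) → k) β ≠ 0
    have hmem : ∀ β, (c : (Fin 3 →₀ ℕ) → k) β ≠ 0 → β ∈ S ∧ Good I α β := fun β hβ => by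
      have hg : Good I α β := by
        by_contra hg
        exact hβ (c.2.1 β hg)
      exact ⟨Finset.mem_filter.2 ⟨(finite_good hI α).mem_toFinset.2 hg, hβ⟩, hg⟩
    obtain ⟨β₀, hβ₀⟩ : ∃ β, (c : (Fin 3 →₀ ℕ) → k) β ≠ 0 := by
      by_contra! h
      exact hne (Subtype.ext (funext h))
    obtain ⟨β, hβ, hmax⟩ := S.exists_max_image (fun β => (β 0 : ℤ) + β 1 - β 2) ⟨β₀, (hmem β₀ hβ₀).1⟩
    have hβne : (c : (Fin 3 →₀ ℕ) → k) β ≠ 0 := (Finset.mem_filter.1 hβ).2
    have hg := (hmem β hβne).2
    have hup : ∀ i : Fin 3, i ≠ 2 → shift β α + Finsupp.single i 1 ∈ exps I := by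
      intro i hi
      by_contra hno
      have hnn : ∀ j : Fin 3, 0 ≤ (((β + Finsupp.single i 1 : Fin 3 →₀ ℕ) j : ℕ) : ℤ) + α j := fun j => by
        have := hg.2.1 j
        simp only [Finsupp.add_apply, Nat.cast_add]
        omega
      have hs : Good I α (β + Finsupp.single i 1) := by
        refine ⟨exps_add hg.1 _, hnn, ?_⟩
        rwa [(shift_eq_iff hnn (γ := shift β α + Finsupp.single i 1)).2 fun j => by
          have := shift_apply hg.2.1 j
          simp only [Finsupp.add_apply, Nat.cast_add]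
          omega]
      have hval := c.2.2 β i hg.1 hs
      have hle := hmax _ (hmem _ (hval ▸ hβne)).1
      fin_cases i <;> simp at hle hi ⊢ <;> omega
    have hdown : 0 < β 2 → β - Finsupp.single 2 1 ∉ exps I := by
      intro h2 hex
      have e : β - Finsupp.single 2 1 + Finsupp.single 2 1 = β :=
        fin3_ext (by simp) (by simp) (by simp; omega)
      have hval := c.2.2 (β - Finsupp.single 2 1) 2 hex (by rw [e]; exact hg)
      rw [e] at hval
      have hle := hmax _ (hmem _ (hval ▸ hβne)).1
      simp at hle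
      omega
    exact hβne (congrFun hc ⟨β, hg, hup 0 (by decide), hup 1 (by decide), hdown⟩)
  have h := LinearMap.finrank_le_finrank_of_injective hinj
  rwa [Module.finrank_fintype_fun_eq_card, ← Nat.card_eq_fintype_card] at h

theorem finrank_le_finsum (hI : IsMonomial I) [Module.Finite k (MvPolynomial (Fin 3) k ⧸ I)]
    (a1 a2 : ℕ) :
    Module.finrank k ↥(⨆ α : {α : Fin 3 → ℤ // α 0 = (a1 : ℤ) ∧ α 1 = (a2 : ℤ) ∧ α 2 < 0}, tPiece I α.1) ≤
      ∑ᶠ p : ℕ × ℕ, (if a1 ≤ p.1 ∧ a2 ≤ p.2
        then stairZ I p.1 p.2 - max (stairZ I (p.1 + 1) p.2) (stairZ I p.1 (p.2 + 1)) else 0) := by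
  classical
  let P : (Fin 3 → ℤ) → Prop := fun α => α 0 = (a1 : ℤ) ∧ α 1 = (a2 : ℤ) ∧ α 2 < 0
  let s := (degs hI).filter P
  rw [finrank_iSup hI P s (fun α hα => (Finset.mem_filter.1 hα).2) fun α hP hα c =>
    eq_zero_of_notMem_degs hI (fun h => hα (Finset.mem_filter.2 ⟨h, hP⟩)) c]
  refine le_trans (Finset.sum_le_sum fun α _ => finrank_coef_le hI α) ?_
  have hfin : ∀ α, (tops I α).Finite := fun α => (finite_good hI α).subset fun β hβ => hβ.1
  let U : Finset (Fin 3 →₀ ℕ) := (finite_compl_exps hI).toFinset.filter fun γ =>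
    a1 ≤ γ 0 ∧ a2 ≤ γ 1 ∧ γ + Finsupp.single 0 1 ∈ exps I ∧ γ + Finsupp.single 1 1 ∈ exps I
  have h1 : ∑ α ∈ s, Nat.card (tops I α) ≤ U.card := by
    calc ∑ α ∈ s, Nat.card (tops I α) = (s.sigma fun α => (hfin α).toFinset).card := by
          rw [Finset.card_sigma]
          refine Finset.sum_congr rfl fun α _ => ?_
          rw [Nat.card_coe_set_eq, Set.ncard_eq_toFinset_card _ (hfin α)]
      _ ≤ U.card := by
          refine Finset.card_le_card_of_injOn (fun x => shift x.2 x.1) ?_ ?_
          · rintro ⟨α, β⟩ hx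
            simp only [Finset.coe_sigma, Set.mem_sigma_iff, Finset.mem_coe, Set.Finite.mem_toFinset] at hx
            obtain ⟨hα, hg, h0, h1', -⟩ := hx
            obtain ⟨hα0, hα1, -⟩ := (Finset.mem_filter.1 hα).2
            have e0 := shift_apply hg.2.1 0
            have e1 := shift_apply hg.2.1 1
            simp only [Finset.mem_coe, U, Finset.mem_filter, Set.Finite.mem_toFinset]
            exact ⟨hg.2.2, by omega, by omega, h0, h1'⟩
          · rintro ⟨α, β⟩ hx ⟨α', β'⟩ hy e
            simp only [Finset.coe_sigma, Set.mem_sigma_iff, Finset.mem_coe, Set.Finite.mem_toFinset] at hx hy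
            obtain ⟨hα, hg, -, -, hd⟩ := hx
            obtain ⟨hα', hg', -, -, hd'⟩ := hy
            obtain ⟨hα0, hα1, hα2⟩ := (Finset.mem_filter.1 hα).2
            obtain ⟨hα0', hα1', hα2'⟩ := (Finset.mem_filter.1 hα').2
            have e' : shift β α = shift β' α' := e
            have ee : ∀ i, (β i : ℤ) + α i = (β' i : ℤ) + α' i := fun i => by
              rw [← shift_apply hg.2.1 i, ← shift_apply hg'.2.1 i, e']
            have hb0 : β 0 = β' 0 := by have := ee 0; omega
            have hb1 : β 1 = β' 1 := by have := ee 1; omega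
            have hb2 : β 2 = β' 2 := by
              have key : ∀ {b b' : Fin 3 →₀ ℕ}, b 0 = b' 0 → b 1 = b' 1 → b 2 < b' 2 → b ∈ exps I →
                  (0 < b' 2 → b' - Finsupp.single 2 1 ∉ exps I) → False := by
                intro b b' h0 h1 h2 hb hb'
                refine hb' (by omega) (exps_mono hb fun i => ?_)
                fin_cases i <;> simp <;> omega
              rcases lt_trichotomy (β 2) (β' 2) with h | h | h
              · exact (key hb0 hb1 h hg.1 hd').elim
              · exact h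
              · exact (key hb0.symm hb1.symm h hg'.1 hd).elim
            have hb : β = β' := fin3_ext hb0 hb1 hb2
            subst hb
            have hαα : α = α' := funext fun i => by have := ee i; omega
            subst hαα
            rfl
  refine h1.trans (le_of_eq ?_)
  let g : ℕ × ℕ → ℕ := fun p => if a1 ≤ p.1 ∧ a2 ≤ p.2
    then stairZ I p.1 p.2 - max (stairZ I (p.1 + 1) p.2) (stairZ I p.1 (p.2 + 1)) else 0
  have hfib : ∀ p, (U.filter fun γ => (γ 0, γ 1) = p).card = g p := by
    intro p
    by_cases hp : a1 ≤ p.1 ∧ a2 ≤ p.2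
    · simp only [g, if_pos hp]
      rw [← Nat.card_Ico]
      refine Finset.card_nbij' (fun γ => γ 2) (fun l => e3 p.1 p.2 l) ?_ ?_ ?_ ?_
      · intro γ hγ
        simp only [Finset.coe_filter, U, Finset.mem_filter, Set.Finite.mem_toFinset,
          Set.mem_setOf_eq] at hγ
        obtain ⟨⟨hne, -, -, h0, h1⟩, he⟩ := hγ
        subst he
        rw [Finset.coe_Ico, Set.mem_Ico]
        refine ⟨max_le ?_ ?_, ?_⟩
        · by_contra! hlt
          refine (notMem_exps_iff hI _ _ _).2 hlt ?_
          rwa [show e3 (γ 0 + 1) (γ 1) (γ 2) = γ + Finsupp.single 0 1 from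
            fin3_ext (by simp) (by simp) (by simp)]
        · by_contra! hlt
          refine (notMem_exps_iff hI _ _ _).2 hlt ?_
          rwa [show e3 (γ 0) (γ 1 + 1) (γ 2) = γ + Finsupp.single 1 1 from
            fin3_ext (by simp) (by simp) (by simp)]
        · rw [← notMem_exps_iff hI, eq_e3]
          exact hne
      · intro l hl
        rw [Finset.coe_Ico, Set.mem_Ico] at hl
        simp only [Finset.coe_filter, U, Finset.mem_filter, Set.Finite.mem_toFinset, Set.mem_setOf_eq,
          e3_zero, e3_one]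
        refine ⟨⟨(notMem_exps_iff hI _ _ _).2 hl.2, hp.1, hp.2, ?_, ?_⟩, trivial⟩
        · rw [show e3 p.1 p.2 l + Finsupp.single 0 1 = e3 (p.1 + 1) p.2 l from
            fin3_ext (by simp) (by simp) (by simp)]
          by_contra h
          have := (notMem_exps_iff hI _ _ _).1 h
          omega
        · rw [show e3 p.1 p.2 l + Finsupp.single 1 1 = e3 p.1 (p.2 + 1) l from
            fin3_ext (by simp) (by simp) (by simp)]
          by_contra h
          have := (notMem_exps_iff hI _ _ _).1 h
          omega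
      · intro γ hγ
        simp only [Finset.coe_filter, Set.mem_setOf_eq] at hγ
        rw [← hγ.2]
        exact eq_e3 γ
      · intro l _
        simp
    · simp only [g, if_neg hp, Finset.card_eq_zero, Finset.filter_eq_empty_iff]
      rintro γ hγ rfl
      simp only [U, Finset.mem_filter] at hγ
      exact hp ⟨hγ.2.1, hγ.2.2.1⟩
  rw [finsum_eq_sum_of_support_subset _ (s := U.image fun γ => (γ 0, γ 1)) ?_,
    Finset.card_eq_sum_card_image (fun γ : Fin 3 →₀ ℕ => (γ 0, γ 1)) U]
  · exact Finset.sum_congr rfl fun p _ => hfib p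
  · intro p hp
    have hne : (U.filter fun γ => (γ 0, γ 1) = p).card ≠ 0 := by
      rw [hfib p]
      exact hp
    obtain ⟨γ, hγ⟩ := Finset.card_ne_zero.1 hne
    rw [Finset.mem_filter] at hγ
    exact Finset.mem_coe.2 (Finset.mem_image.2 ⟨γ, hγ.1, hγ.2⟩)

end Groth.Agent.H15.HilbTgt.Stair
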